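import Cfsg.Agent.Lib.LBalance.Inner
import Cfsg.Agent.Lib.Tech46.BBalance.PComp

/-!
`L`-balance for the prime 2, with no hypothesis on automorphism groups.
-/

set_option autoImplicit false

namespace CfsgLib.LBalance

open Subgroup CfsgLib.Components CfsgLib.Tech46
open scoped commutatorElement Pointwise

variable {Y : Type*} [Group Y] [Finite Y]

local instance : Fact (Nat.Prime 2) := ⟨Nat.prime_two⟩

/-- **`L_{p'}`-balance**, quotient form: with `O_{p'}(Y) = 1` and the Schreier property of the components, a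
perfect subgroup like a `p`-component of `N(R)` lies in the layer. -/
theorem le_layer_of_two (hO : Cfsg.pPrimeCore 2 Y = ⊥)
    {R : Subgroup Y} (hR : IsPGroup 2 R) {H : Subgroup Y} (hHN : H ≤ normalizer (R : Set Y))
    (hperf : ⁅H, H⁆ = H) (hgen : pElemClosure 2 H = H) (hsub : (H.subgroupOf (normalizer (R : Set Y))).IsSubnormal)
    (hqs : Cfsg.IsQuasisimple (↥H ⧸ Cfsg.pPrimeCore 2 ↥H))
    (hlp : H.subgroupOf (normalizer (R : Set Y)) ≤ layerPreimage 2 ↥(normalizer (R : Set Y))) :
    H ≤ Cfsg.layer Y := by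
  set N := normalizer (R : Set Y) with hNdef
  have hHP : H ≤ centralizer (Cfsg.pCore 2 Y : Set Y) := by
    refine le_trans ?_ (map_layerPreimage_normalizer_le hR)
    rw [← map_subgroupOf_eq_of_le hHN]
    exact map_mono hlp
  have hHR : H ≤ centralizer (R : Set Y) := by
    intro h hh
    haveI : (R.subgroupOf N).Normal := normal_subgroupOf_of_le_normalizer le_rfl
    have h1 := layerPreimage_le_centralizer (p := 2) (V := R.subgroupOf N) hR.comap_subtype
      (hlp (show (⟨h, hHN hh⟩ : N) ∈ H.subgroupOf N from hh))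
    rw [mem_centralizer_iff] at h1 ⊢
    exact fun r hr => congrArg Subtype.val (h1 ⟨r, le_normalizer hr⟩ hr)
  set R₀ := R ⊔ Cfsg.pCore 2 Y
  set N₀ := normalizer (R₀ : Set Y) with hN₀
  have hR₀ : IsPGroup 2 R₀ := hR.to_sup_of_normal_right CfsgLib.PCore.pCore_isPGroup
  have hHC : H ≤ centralizer (R₀ : Set Y) := by
    rw [le_centralizer_iff]
    exact sup_le (le_centralizer_iff.mp hHR) (le_centralizer_iff.mp hHP)
  have hHN₀ : H ≤ N₀ := hHC.trans (centralizer_le_normalizer _)
  have hCN : centralizer (R₀ : Set Y) ≤ N :=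
    (centralizer_le (SetLike.coe_subset_coe.mpr le_sup_left)).trans (centralizer_le_normalizer _)
  have hsub₀ : (H.subgroupOf N₀).IsSubnormal := by
    set C := centralizer (R₀ : Set Y)
    have hC1 : (H.subgroupOf C).IsSubnormal := hsub.comap (Subgroup.inclusion hCN)
    haveI hCn : (C.subgroupOf N₀).Normal :=
      (normal_subgroupOf_iff_le_normalizer (centralizer_le_normalizer _)).mpr (by
        intro n hn
        rw [mem_normalizer_iff]
        intro c
        simp only [C, mem_centralizer_iff, SetLike.mem_coe]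
        constructor
        · intro hc r hr
          have h' := hc _ ((mem_normalizer_iff.mp (inv_mem hn) r).mp hr)
          calc r * (n * c * n⁻¹) = n * ((n⁻¹ * r * n⁻¹⁻¹) * c) * n⁻¹ := by group
            _ = n * (c * (n⁻¹ * r * n⁻¹⁻¹)) * n⁻¹ := by rw [h']
            _ = n * c * n⁻¹ * r := by group
        · intro hc r hr
          have h' := hc _ ((mem_normalizer_iff.mp hn r).mp hr)
          calc r * c = n⁻¹ * ((n * r * n⁻¹) * (n * c * n⁻¹)) * n := by group
            _ = n⁻¹ * (n * c * n⁻¹ * (n * r * n⁻¹)) * n := by rw [h']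
            _ = c * r := by group)
    let e : ↥(C.subgroupOf N₀) →* C := (subgroupOfEquivOfLe (centralizer_le_normalizer _)).toMonoidHom
    exact IsSubnormal.trans (fun x hx => hHC hx) (hC1.comap e) hCn.isSubnormal
  set π₀ := QuotientGroup.mk' (Cfsg.pPrimeCore 2 N₀)
  set H₀ := H.subgroupOf N₀
  have hlc : LocalComp R₀ H := ⟨hR₀, hHC, hsub₀, hperf, hgen, hqs⟩
  have hcomp : Cfsg.IsComponent (H₀.map π₀) := hlc.isComponent_map
  set E₀ := (Cfsg.layer Y).subgroupOf N₀
  haveI hLn : (Cfsg.layer Y).Normal := inferInstance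
  haveI hE₀n : E₀.Normal := hLn.subgroupOf _
  -- `H` normalizes every component
  have hnorm : ∀ K : Subgroup Y, Cfsg.IsComponent K → H ≤ normalizer (K : Set Y) := by
    obtain h | h := le_or_commutator_eq_bot hcomp
      (hE₀n.map π₀ (QuotientGroup.mk'_surjective _)).isSubnormal
    · intro K hK x hx
      obtain ⟨e, he, hex⟩ := h ⟨⟨x, hHN₀ hx⟩, hx, rfl⟩
      have hd : e⁻¹ * ⟨x, hHN₀ hx⟩ ∈ Cfsg.pPrimeCore 2 N₀ := QuotientGroup.eq.mp hex
      have hd' : (e : Y)⁻¹ * x ∈ localCore 2 R₀ := ⟨_, hd, rfl⟩
      have := mul_mem (layer_le_normalizer_component hK he) (localCore_le_normalizer_component hO hR₀ hK hd')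
      simpa using this
    · set M := ⨅ K : {K : Subgroup Y // Cfsg.IsComponent K}, normalizer ((K : Subgroup Y) : Set Y) with hM
      have hHM : H ≤ M := by
        refine le_of_forall_coprime_mem_of_perfect (p := 2) hperf ?_ ?_
        · intro y _
          have key : ∀ y : Y, ∀ m ∈ M, y * m * y⁻¹ ∈ M := by
            intro y m hm
            rw [hM, mem_iInf] at hm ⊢
            rintro ⟨K, hK⟩
            have h1 := mem_normalizer_iff.mp (hm ⟨K.map (MulAut.conj y⁻¹).toMonoidHom, isComponent_conj _ hK⟩)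
            rw [mem_normalizer_iff]
            intro k
            have h2 := h1 (y⁻¹ * k * y)
            simp only [mem_map_equiv, MulAut.conj_symm_apply, inv_inv] at h2
            rw [show y * (y⁻¹ * k * y) * y⁻¹ = k by group,
              show y * (m * (y⁻¹ * k * y) * m⁻¹) * y⁻¹ = y * m * y⁻¹ * k * (y * m * y⁻¹)⁻¹ by group] at h2
            exact h2
          rw [mem_normalizer_iff]
          exact fun m => ⟨key y m, fun hm => by simpa [mul_assoc] using key y⁻¹ _ hm⟩
        · intro x hx hord
          rw [hM, mem_iInf]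
          rintro ⟨K, hK⟩
          refine mem_normalizer_of_pow_card hR₀ hord ?_
          refine pow_card_mem_normalizer_component hO hR₀ le_sup_right (hHC hx)
            (localCore_coprime (p := 2) R₀) (fun t ht htN => ?_) hK
          have h1 : π₀ ⁅(⟨x, hHN₀ hx⟩ : N₀), ⟨t, htN⟩⁆ = 1 := by
            rw [map_commutatorElement, ← mem_bot, ← h]
            exact commutator_mem_commutator ⟨_, hx, rfl⟩ ⟨⟨t, htN⟩, ht, rfl⟩
          exact ⟨_, (QuotientGroup.eq_one_iff _).mp h1, rfl⟩
      exact fun K hK => hHM.trans (iInf_le (fun K : {K : Subgroup Y // Cfsg.IsComponent K} =>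
        normalizer ((K : Subgroup Y) : Set Y)) ⟨K, hK⟩)
  -- `H` acts on the layer by inner automorphisms
  classical
  have key : ∀ s : Finset (Subgroup Y), (∀ K ∈ s, Cfsg.IsComponent K) →
      ∀ x ∈ H, ∃ e ∈ Cfsg.layer Y, ∀ K ∈ s, e⁻¹ * x ∈ centralizer (K : Set Y) := by
    intro s
    induction s using Finset.induction_on with
    | empty => exact fun _ x _ => ⟨1, one_mem _, by simp⟩
    | @insert K s hKs ih =>
      intro hs x hx
      obtain ⟨e, he, hec⟩ := ih (fun L hL => hs L (Finset.mem_insert_of_mem hL)) x hx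
      have hK := hs K (Finset.mem_insert_self K s)
      have hEKC : Cfsg.layer Y ≤ K ⊔ centralizer (K : Set Y) := by
        refine sSup_le fun L hL => ?_
        obtain rfl | hne := eq_or_ne L K
        · exact le_sup_left
        · exact (le_centralizer_of_commutator_eq_bot (commutator_components_eq_bot hL hK hne)).trans le_sup_right
      have hc : e⁻¹ * x ∈ K ⊔ centralizer (K : Set Y) := mul_mem (inv_mem (hEKC he))
        (inner_of_two hO hK hlc (hnorm K hK) hx)
      have hc' : e⁻¹ * x ∈ (K : Set Y) * (centralizer (K : Set Y) : Set Y) := by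
        rw [← coe_mul_of_right_le_normalizer_left K _ (centralizer_le_normalizer _)]
        exact hc
      obtain ⟨a, ha, z, hz, haz⟩ := Set.mem_mul.mp hc'
      refine ⟨e * a, mul_mem he (component_le_layer hK ha), fun L hL => ?_⟩
      have e1 : (e * a)⁻¹ * x = a⁻¹ * (e⁻¹ * x) := by group
      rcases Finset.mem_insert.mp hL with rfl | hL'
      · rw [e1, ← haz, inv_mul_cancel_left]
        exact hz
      · rw [e1]
        refine mul_mem (inv_mem ?_) (hec L hL')
        exact le_centralizer_of_commutator_eq_bot (commutator_components_eq_bot hK (hs L hL)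
          (fun h => hKs (h ▸ hL'))) ha
  have hle : H ≤ Cfsg.layer Y ⊔ Cfsg.pCore 2 Y := by
    intro x hx
    haveI : Fintype (Subgroup Y) := Fintype.ofFinite _
    obtain ⟨e, he, hec⟩ := key (Finset.univ.filter fun K => Cfsg.IsComponent K) (by simp) x hx
    have hc : e⁻¹ * x ∈ Cfsg.pCore 2 Y := by
      refine mem_pCore_of_centralizes hO (mem_centralizer_layer fun K hK => hec K (by simp [hK])) ?_
      refine mul_mem (inv_mem ?_) (hHP hx)
      haveI : Group.IsSolvable (Cfsg.pCore 2 Y) :=
        haveI := (CfsgLib.PCore.pCore_isPGroup (p := 2) (G := Y)).isNilpotent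
        inferInstance
      exact le_centralizer_of_commutator_eq_bot (commutator_layer_solvable _) he
    have := mul_mem_sup he hc
    simpa using this
  set q := QuotientGroup.mk' (Cfsg.layer Y)
  have hH1 : H.map q = ⊥ := by
    refine eq_bot_of_perfect_of_isSolvable (by rw [← map_commutator, hperf]) ?_
    have hle2 : H.map q ≤ (Cfsg.pCore 2 Y).map q := by
      refine (map_mono hle).trans ?_
      rw [Subgroup.map_sup, show (Cfsg.layer Y).map q = ⊥ by
        rw [Subgroup.map_eq_bot_iff, QuotientGroup.ker_mk'], bot_sup_eq]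
    haveI := ((CfsgLib.PCore.pCore_isPGroup (p := 2) (G := Y)).map q).isNilpotent
    exact Group.isSolvable_of_isSolvable_injective (inclusion_injective hle2)
  rwa [Subgroup.map_eq_bot_iff, QuotientGroup.ker_mk'] at hH1

/-- **`L_{p'}`-balance** from the Schreier property. -/
theorem map_pLayer_normalizer_le_two {X : Type*} [Group X] [Finite X]
    {R : Subgroup X} (hR : IsPGroup 2 R) :
    (Cfsg.pLayer 2 ↥(normalizer (R : Set X))).map (normalizer (R : Set X)).subtype ≤ Cfsg.pLayer 2 X := by
  set π := QuotientGroup.mk' (Cfsg.pPrimeCore 2 X) with hπ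
  set N := normalizer (R : Set X) with hNdef
  rw [map_le_iff_le_comap]
  refine sSup_le fun K hK => map_le_iff_le_comap.mp ?_
  set Nb := normalizer ((R.map π : Subgroup _) : Set (X ⧸ Cfsg.pPrimeCore 2 X))
  have hN : N.map π = Nb := map_normalizer_quotient CfsgLib.PCore.pPrimeCore_coprime hR
  let σ : N →* Nb := (π.comp N.subtype).codRestrict _ fun z => hN.le ⟨z, z.2, rfl⟩
  have hσ : Function.Surjective σ := by
    intro w
    obtain ⟨z, hz, hzw⟩ := hN.ge w.2
    exact ⟨⟨z, hz⟩, Subtype.ext hzw⟩
  set H := (K.map N.subtype).map π with hHdef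
  have hHN : H ≤ Nb := hN ▸ map_mono (map_subtype_le K)
  have hHs : H.subgroupOf Nb = K.map σ := by
    ext w
    constructor
    · rintro ⟨_, ⟨z, hz, rfl⟩, hzw⟩
      exact ⟨z, hz, Subtype.ext hzw⟩
    · rintro ⟨z, hz, rfl⟩
      exact ⟨z, ⟨z, hz, rfl⟩, rfl⟩
  have hperf : ⁅H, H⁆ = H := by
    rw [hHdef, ← map_commutator, ← map_commutator, pComponent_commutator_self hK]
  have hgen : pElemClosure 2 H = H := by
    rw [hHdef, ← map_pElemClosure, ← map_pElemClosure,
      le_antisymm (pElemClosure_le K) (pComponent_le_pElemClosure hK)]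
  let g : K →* H := ((π.subgroupMap (K.map N.subtype)).comp (N.subtype.subgroupMap K))
  have hg : Function.Surjective g :=
    (π.subgroupMap_surjective _).comp (N.subtype.subgroupMap_surjective K)
  have hqs : Cfsg.IsQuasisimple (↥H ⧸ Cfsg.pPrimeCore 2 ↥H) := by
    haveI : Nontrivial (↥H ⧸ Cfsg.pPrimeCore 2 ↥H) := by
      rw [QuotientGroup.nontrivial_iff]
      intro htop
      have hcop : (Nat.card H).Coprime 2 := by
        have := CfsgLib.PCore.pPrimeCore_coprime (p := 2) (G := H)
        rwa [htop, card_top] at this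
      have hk := pComponent_eq_top_of_coprime_index hK g.ker (by
        rw [Subgroup.index_ker, MonoidHom.range_eq_top.mpr hg, card_top]
        exact hcop)
      have hle : K.map N.subtype ≤ Cfsg.pPrimeCore 2 X := by
        rintro _ ⟨z, hz, rfl⟩
        have h1 : g ⟨z, hz⟩ = 1 := MonoidHom.mem_ker.mp (hk ▸ mem_top _)
        exact (QuotientGroup.eq_one_iff _).mp (congrArg Subtype.val h1)
      have h2 := (pComponent_dvd_card hK).trans
        ((dvd_of_eq (card_map_of_injective N.subtype_injective).symm).trans (card_dvd_of_le hle))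
      exact CfsgLib.PCore.not_dvd_card_pPrimeCore h2
    let g' : (↥K ⧸ Cfsg.pPrimeCore 2 ↥K) →* (↥H ⧸ Cfsg.pPrimeCore 2 ↥H) :=
      QuotientGroup.map _ _ g (map_le_iff_le_comap.mp (CfsgLib.PCore.map_pPrimeCore_le g hg))
    refine isQuasisimple_of_surjective (pComponent_quotient_quasisimple hK) g' ?_
    intro y
    obtain ⟨y, rfl⟩ := QuotientGroup.mk'_surjective _ y
    obtain ⟨x, rfl⟩ := hg y
    exact ⟨QuotientGroup.mk x, rfl⟩
  have hlp : H.subgroupOf Nb ≤ layerPreimage 2 Nb := by
    rw [hHs]
    refine le_trans (map_mono ?_) (map_layerPreimage_le hσ)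
    exact map_le_iff_le_comap.mp (component_le_layer hK.2.1)
  have hle := le_layer_of_two CfsgLib.PCore.pPrimeCore_quotient_pPrimeCore (hR.map π) hHN hperf hgen
    (hHs ▸ hK.1.map hσ) hqs hlp
  have h1 : K.map N.subtype ≤ Cfsg.pLayer 2 X ⊔ Cfsg.pPrimeCore 2 X := by
    rw [← QuotientGroup.ker_mk' (Cfsg.pPrimeCore 2 X), ← comap_map_eq, ← map_le_iff_le_comap, ← hπ, map_pLayer]
    exact hle
  haveI hLn : (Cfsg.pLayer 2 X).Normal := CfsgLib.Components39.pLayer_normal_inst
  refine le_trans ?_ (pElemClosure_le_of_coprime (p := 2) hLn.isSubnormal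
    ((relIndex_dvd_card_of_le_sup le_sup_left le_rfl |> fun h =>
      CfsgLib.PCore.pPrimeCore_coprime.coprime_dvd_left h) :
        ((Cfsg.pLayer 2 X).relIndex (Cfsg.pLayer 2 X ⊔ Cfsg.pPrimeCore 2 X)).Coprime 2))
  refine le_trans ?_ (pElemClosure_mono h1)
  rw [← map_pElemClosure]
  exact map_mono (pComponent_le_pElemClosure hK)

/-- The layer of a centraliser of a 2-group lies in the layer of the normalizer. -/
theorem map_pLayer_centralizer_le_two {X : Type*} [Group X] [Finite X] {T : Subgroup X} (hT : IsPGroup 2 T) :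
    (Cfsg.pLayer 2 ↥(centralizer (T : Set X))).map (centralizer (T : Set X)).subtype ≤ Cfsg.pLayer 2 X := by
  set N := normalizer (T : Set X)
  set C := centralizer (T : Set X)
  refine le_trans ?_ (map_pLayer_normalizer_le_two hT)
  rw [map_le_iff_le_comap]
  refine sSup_le fun L hL => map_le_iff_le_comap.mp ?_
  haveI hCn : (C.subgroupOf N).Normal :=
    normal_subgroupOf_of_le_normalizer (normalizer_le_normalizer_centralizer' T)
  let e : ↥(C.subgroupOf N) ≃* C := subgroupOfEquivOfLe (centralizer_le_normalizer _)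
  have hL' : Cfsg.IsPComponent 2 (L.map e.symm.toMonoidHom) :=
    BBalance.isPComponent_map e.symm.surjective hL fun hle => by
      have h2 : 2 ∣ Nat.card (Cfsg.pPrimeCore 2 ↥(C.subgroupOf N)) := by
        refine (pComponent_dvd_card hL).trans ?_
        rw [← card_map_of_injective (K := L) (f := e.symm.toMonoidHom) e.symm.injective]
        exact card_dvd_of_le hle
      exact CfsgLib.PCore.not_dvd_card_pPrimeCore h2
  have h1 := BBalance.isPComponent_map_subtype hCn.isSubnormal hL'
  refine le_trans ?_ (map_mono (le_sSup h1))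
  rintro _ ⟨x, hx, rfl⟩
  exact ⟨_, ⟨_, ⟨x, hx, rfl⟩, rfl⟩, rfl⟩

end CfsgLib.LBalance
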