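import Cfsg.Agent.Lib.LBalance.Main

/-!
The position of a component of the centralizer of an involution inside the layer.
-/

set_option autoImplicit false

namespace CfsgLib.LBalance

open Subgroup CfsgLib.Components CfsgLib.Tech46
open scoped commutatorElement Pointwise

variable {Y : Type*} [Group Y] [Finite Y]

/-- `x ↦ x * (a x a⁻¹)`, a homomorphism on a subgroup commuting with its conjugate by `a`. -/
def diag {D : Subgroup Y} (a : Y) (h : ∀ x ∈ D, ∀ y ∈ D, x * (a * y * a⁻¹) = a * y * a⁻¹ * x) : D →* Y :=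
  MonoidHom.mk' (fun x => (x : Y) * (a * x * a⁻¹)) fun x y => by
    show (x : Y) * y * (a * (x * y) * a⁻¹) = x * (a * x * a⁻¹) * (y * (a * y * a⁻¹))
    calc (x : Y) * y * (a * (x * y) * a⁻¹) = x * ((y : Y) * (a * x * a⁻¹)) * (a * y * a⁻¹) := by group
      _ = x * ((a * x * a⁻¹) * y) * (a * y * a⁻¹) := by rw [h y y.2 x x.2]
      _ = x * (a * x * a⁻¹) * (y * (a * y * a⁻¹)) := by group

omit [Finite Y] in
/-- Central factors cancel in a commutator. -/
theorem commutator_central_mul {z w X U : Y} (hzw : Commute z w) (hzX : Commute z X) (hzU : Commute z U)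
    (hwX : Commute w X) (hwU : Commute w U) : ⁅z * X, w * U⁆ = ⁅X, U⁆ := by
  rw [commutatorElement_def, commutatorElement_def]
  calc z * X * (w * U) * (z * X)⁻¹ * (w * U)⁻¹
      = z * (X * w) * U * X⁻¹ * (z⁻¹ * U⁻¹) * w⁻¹ := by group
    _ = z * (w * X) * U * X⁻¹ * (U⁻¹ * z⁻¹) * w⁻¹ := by rw [← hwX.eq, hzU.inv_left.inv_right.eq]
    _ = (z * w) * ((X * U * X⁻¹ * U⁻¹) * (z⁻¹ * w⁻¹)) := by group
    _ = (z * w) * ((z⁻¹ * w⁻¹) * (X * U * X⁻¹ * U⁻¹)) := by
      have h1 : Commute (z⁻¹ * w⁻¹) (X * U * X⁻¹ * U⁻¹) :=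
        ((((hzX.inv_left.mul_left hwX.inv_left).mul_right (hzU.inv_left.mul_left hwU.inv_left)).mul_right
          (hzX.inv_left.mul_left hwX.inv_left).inv_right).mul_right (hzU.inv_left.mul_left hwU.inv_left).inv_right)
      rw [h1.eq]
    _ = X * U * X⁻¹ * U⁻¹ := by rw [hzw.eq]; group

/-- A perfect group in `A ⊔ C(D)` lies in `⁅A, A⁆ ⊔ C(D)` when `A ≤ D`. -/
theorem perfect_le_commutator_sup {A D H : Subgroup Y} (hAD : A ≤ D) (hperf : ⁅H, H⁆ = H)
    (hle : H ≤ A ⊔ centralizer (D : Set Y)) : H ≤ ⁅A, A⁆ ⊔ centralizer (D : Set Y) := by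
  rw [← hperf, commutator_le]
  intro a ha b hb
  have hn : A ≤ normalizer (centralizer (D : Set Y) : Set Y) :=
    (hAD.trans le_normalizer).trans (normalizer_le_normalizer_centralizer' D)
  have key : ∀ x ∈ H, ∃ u ∈ A, ∃ c ∈ centralizer (D : Set Y), u * c = x := fun x hx => by
    have h1 := hle hx
    rw [← SetLike.mem_coe, coe_mul_of_left_le_normalizer_right A _ hn, Set.mem_mul] at h1
    exact h1
  obtain ⟨u, hu, c, hc, rfl⟩ := key a ha
  obtain ⟨v, hv, d, hd, rfl⟩ := key b hb
  have e : ⁅u * c, v * d⁆ = ⁅u, v⁆ * ⁅c, d⁆ := by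
    have hcv : Commute c v := (mem_centralizer_iff.mp hc v (hAD hv)).symm
    have hcu : Commute c u := (mem_centralizer_iff.mp hc u (hAD hu)).symm
    have hdu : Commute d u := (mem_centralizer_iff.mp hd u (hAD hu)).symm
    have hdv : Commute d v := (mem_centralizer_iff.mp hd v (hAD hv)).symm
    rw [commutatorElement_def, commutatorElement_def, commutatorElement_def, mul_inv_rev, mul_inv_rev]
    calc u * c * (v * d) * (c⁻¹ * u⁻¹) * (d⁻¹ * v⁻¹)
        = u * (c * v) * d * (c⁻¹ * u⁻¹) * (d⁻¹ * v⁻¹) := by group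
      _ = u * (v * c) * d * (u⁻¹ * c⁻¹) * (v⁻¹ * d⁻¹) := by
          rw [hcv.eq, (hcu.inv_left.inv_right).eq, (hdv.inv_left.inv_right).eq]
      _ = u * v * (c * d * u⁻¹) * (c⁻¹ * v⁻¹) * d⁻¹ := by group
      _ = u * v * (u⁻¹ * (c * d)) * (v⁻¹ * c⁻¹) * d⁻¹ := by
          rw [(hcu.mul_left hdu).inv_right.eq, (hcv.inv_left.inv_right).eq]
      _ = u * v * u⁻¹ * (c * d * v⁻¹) * c⁻¹ * d⁻¹ := by group
      _ = u * v * u⁻¹ * (v⁻¹ * (c * d)) * c⁻¹ * d⁻¹ := by rw [(hcv.mul_left hdv).inv_right.eq]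
      _ = u * v * u⁻¹ * v⁻¹ * (c * d * c⁻¹ * d⁻¹) := by group
  rw [e]
  refine mul_mem_sup (commutator_mem_commutator hu hv) ?_
  exact mul_mem (mul_mem (mul_mem hc hd) (inv_mem hc)) (inv_mem hd)

/-- A perfect subgroup of the layer centralising `C_D(a)` and `a` centralises the component `D` fixed by
`a`. -/
theorem le_centralizer_of_fixed {D H : Subgroup Y} (hD : Cfsg.IsComponent D) {a : Y}
    (haD : a ∈ normalizer (D : Set Y)) (hperf : ⁅H, H⁆ = H) (hHJ : H ≤ D ⊔ centralizer (D : Set Y))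
    (hHa : H ≤ centralizer {a})
    (hHQ : H ≤ centralizer ((D ⊓ centralizer {a} : Subgroup Y) : Set Y)) :
    H ≤ centralizer (D : Set Y) := by
  set Q := D ⊓ centralizer ({a} : Set Y) with hQ
  set Cd := centralizer (D : Set Y) with hCd
  have hCn : D ≤ normalizer (Cd : Set Y) := le_normalizer.trans (normalizer_le_normalizer_centralizer' D)
  have haC : a ∈ normalizer (Cd : Set Y) := normalizer_le_normalizer_centralizer' D haD
  have haZ : a ∈ normalizer ((D ⊓ Cd : Subgroup Y) : Set Y) := by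
    rw [mem_normalizer_iff]
    intro x
    simp only [mem_inf]
    exact and_congr (mem_normalizer_iff.mp haD x) (mem_normalizer_iff.mp haC x)
  let P : Subgroup Y :=
    { carrier := {x | x ∈ D ∧ x⁻¹ * (a * x * a⁻¹) ∈ Cd}
      one_mem' := ⟨one_mem _, by simp⟩
      mul_mem' := fun {x y} hx hy => ⟨mul_mem hx.1 hy.1, by
        have e : (x * y)⁻¹ * (a * (x * y) * a⁻¹) =
            y⁻¹ * (x⁻¹ * (a * x * a⁻¹)) * y * (y⁻¹ * (a * y * a⁻¹)) := by group
        rw [e]
        refine mul_mem ?_ hy.2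
        simpa using (mem_normalizer_iff.mp (hCn (inv_mem hy.1)) _).mp hx.2⟩
      inv_mem' := fun {x} hx => ⟨inv_mem hx.1, by
        have e : x⁻¹⁻¹ * (a * x⁻¹ * a⁻¹) = x * (x⁻¹ * (a * x * a⁻¹))⁻¹ * x⁻¹ := by group
        rw [e]
        exact (mem_normalizer_iff.mp (hCn hx.1) _).mp (inv_mem hx.2)⟩ }
  have hPD : P ≤ D := fun x hx => hx.1
  have h1 : H ≤ P ⊔ Cd := by
    intro k hk
    have h := hHJ hk
    rw [← SetLike.mem_coe, coe_mul_of_right_le_normalizer_left D _ (centralizer_le_normalizer _),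
      Set.mem_mul] at h
    obtain ⟨d, hd, c, hc, rfl⟩ := h
    refine mul_mem_sup (S := P) ⟨hd, ?_⟩ hc
    have hfix : a * (d * c) * a⁻¹ = d * c := by
      rw [← mem_centralizer_singleton_iff.mp (hHa hk), mul_inv_cancel_right]
    have e : d⁻¹ * (a * d * a⁻¹) = c * (a * c * a⁻¹)⁻¹ := by
      calc d⁻¹ * (a * d * a⁻¹) = d⁻¹ * (a * (d * c) * a⁻¹) * (a * c * a⁻¹)⁻¹ := by group
        _ = d⁻¹ * (d * c) * (a * c * a⁻¹)⁻¹ := by rw [hfix]
        _ = c * (a * c * a⁻¹)⁻¹ := by group
    rw [e]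
    exact mul_mem hc (inv_mem ((mem_normalizer_iff.mp haC c).mp hc))
  have hPQ : ⁅P, P⁆ ≤ Q := by
    rw [commutator_le]
    intro x hx y hy
    refine mem_inf.mpr ⟨D.mul_mem (D.mul_mem (D.mul_mem hx.1 hy.1) (D.inv_mem hx.1)) (D.inv_mem hy.1),
      mem_centralizer_singleton_iff.mpr ?_⟩
    have hcen : ∀ w : Y, w ∈ P → ∀ d ∈ D, (w⁻¹ * (a * w * a⁻¹)) * d = d * (w⁻¹ * (a * w * a⁻¹)) :=
      fun w hw d hd => (mem_centralizer_iff.mp hw.2 d hd).symm
    have key : a * ⁅x, y⁆ * a⁻¹ = ⁅x, y⁆ := by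
      have hzD : x⁻¹ * (a * x * a⁻¹) ∈ D :=
        mul_mem (inv_mem hx.1) ((mem_normalizer_iff.mp haD x).mp hx.1)
      have hwD : y⁻¹ * (a * y * a⁻¹) ∈ D :=
        mul_mem (inv_mem hy.1) ((mem_normalizer_iff.mp haD y).mp hy.1)
      set z := x⁻¹ * (a * x * a⁻¹) with hz
      set w := y⁻¹ * (a * y * a⁻¹) with hw
      have ex : a * x * a⁻¹ = x * z := by rw [hz]; group
      have ey : a * y * a⁻¹ = y * w := by rw [hw]; group
      have hz' : ∀ d ∈ D, z * d = d * z := hcen x hx
      have hw' : ∀ d ∈ D, w * d = d * w := hcen y hy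
      rw [conjugate_commutatorElement, ex, ey, ← hz' x hx.1, ← hw' y hy.1]
      exact commutator_central_mul (hz' w hwD) (hz' x hx.1) (hz' y hy.1) (hw' x hx.1) (hw' y hy.1)
    calc ⁅x, y⁆ * a = a * ⁅x, y⁆ * a⁻¹ * a := by rw [key]
      _ = a * ⁅x, y⁆ := by group
  have h2 : H ≤ Q ⊔ Cd := (perfect_le_commutator_sup hPD hperf h1).trans (sup_le_sup_right hPQ _)
  have h3 : H ≤ (Q ⊓ centralizer (Q : Set Y)) ⊔ Cd := by
    intro k hk
    have h := h2 hk
    rw [← SetLike.mem_coe,
      coe_mul_of_left_le_normalizer_right Q _ ((inf_le_left : Q ≤ D).trans hCn), Set.mem_mul] at h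
    obtain ⟨q, hq, c, hc, rfl⟩ := h
    refine mul_mem_sup ⟨hq, ?_⟩ hc
    have hcQ : c ∈ centralizer (Q : Set Y) := centralizer_le (SetLike.coe_subset_coe.mpr inf_le_left) hc
    have := mul_mem (hHQ hk) (inv_mem hcQ)
    rwa [mul_inv_cancel_right] at this
  have h4 := perfect_le_commutator_sup (inf_le_left.trans inf_le_left) hperf h3
  rwa [show ⁅Q ⊓ centralizer (Q : Set Y), Q ⊓ centralizer (Q : Set Y)⁆ = ⊥ by
    rw [commutator_eq_bot_iff_le_centralizer]
    exact inf_le_right.trans (centralizer_le (SetLike.coe_subset_coe.mpr inf_le_left)), bot_sup_eq] at h4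

/-- The position of a component of `C(a)`, `a² = 1`, contained in the layer. -/
theorem component_cases {a : Y} (ha : a * a = 1) {K : Subgroup Y} (hKa : K ≤ centralizer {a})
    (hK : Cfsg.IsComponent (K.subgroupOf (centralizer ({a} : Set Y)))) (hKE : K ≤ Cfsg.layer Y) :
    ∃ D : Subgroup Y, Cfsg.IsComponent D ∧
      ((a ∈ normalizer (D : Set Y) ∧ K ≤ D) ∨
        (D.map (MulAut.conj a).toMonoidHom ≠ D ∧
          ∃ h : ∀ x ∈ D, ∀ y ∈ D, x * (a * y * a⁻¹) = a * y * a⁻¹ * x, K = (diag a h).range)) := by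
  classical
  have hainv : a⁻¹ = a := inv_eq_of_mul_eq_one_right ha
  have hperfK : ⁅K, K⁆ = K := by
    have h := component_commutator_self hK
    have h' := congrArg (Subgroup.map (centralizer ({a} : Set Y)).subtype) h
    rwa [map_commutator, map_subgroupOf_eq_of_le hKa] at h'
  have hqK : Cfsg.IsQuasisimple K := isQuasisimple_of_mulEquiv hK.2 (subgroupOfEquivOfLe hKa)
  have hKJ : ∀ D : Subgroup Y, Cfsg.IsComponent D → K ≤ D ⊔ centralizer (D : Set Y) := fun D hD =>
    hKE.trans (sSup_le fun L hL => by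
      obtain rfl | hne := eq_or_ne L D
      · exact le_sup_left
      · exact (le_centralizer_of_commutator_eq_bot (commutator_components_eq_bot hL hD hne)).trans le_sup_right)
  have hdich : ∀ M : Subgroup Y, M.IsSubnormal → K ≤ M ∨ K ≤ centralizer ((M ⊓ centralizer {a} : Subgroup Y) : Set Y) := by
    intro M hM
    obtain h | h := le_or_commutator_eq_bot hK (hM.comap (centralizer ({a} : Set Y)).subtype)
    · left
      exact fun k hk => h (show (⟨k, hKa hk⟩ : centralizer ({a} : Set Y)) ∈ K.subgroupOf _ from hk)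
    · right
      intro k hk
      rw [mem_centralizer_iff]
      rintro m ⟨hm, hma⟩
      have h1 := (commutator_eq_bot_iff_le_centralizer.mp h)
        (show (⟨k, hKa hk⟩ : centralizer ({a} : Set Y)) ∈ K.subgroupOf _ from hk)
      exact congrArg Subtype.val (mem_centralizer_iff.mp h1 ⟨m, hma⟩ hm)
  have hcomm : ∀ D : Subgroup Y, Cfsg.IsComponent D → D.map (MulAut.conj a).toMonoidHom ≠ D →
      ∀ x ∈ D, ∀ y ∈ D, x * (a * y * a⁻¹) = a * y * a⁻¹ * x := fun D hD hne x hx y hy =>
    (mem_centralizer_iff.mp (le_centralizer_of_commutator_eq_bot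
      (commutator_components_eq_bot (isComponent_conj a hD) hD hne) ⟨y, hy, rfl⟩) x hx)
  have hdiagC : ∀ D : Subgroup Y, ∀ h : ∀ x ∈ D, ∀ y ∈ D, x * (a * y * a⁻¹) = a * y * a⁻¹ * x,
      (diag a h).range ≤ centralizer {a} := by
    rintro D h _ ⟨x, rfl⟩
    rw [mem_centralizer_singleton_iff]
    show (x : Y) * (a * x * a⁻¹) * a = a * (x * (a * x * a⁻¹))
    conv_lhs => rw [h x x.2 x x.2]
    rw [hainv]
    group
  by_cases hex : ∃ D : Subgroup Y, Cfsg.IsComponent D ∧ K ≤ D ⊔ D.map (MulAut.conj a).toMonoidHom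
  · obtain ⟨D, hD, hKD⟩ := hex
    refine ⟨D, hD, ?_⟩
    by_cases hne : D.map (MulAut.conj a).toMonoidHom = D
    · exact Or.inl ⟨mem_normalizer_iff_map_conj_eq.mpr hne, by rwa [hne, sup_idem] at hKD⟩
    refine Or.inr ⟨hne, hcomm D hD hne, ?_⟩
    set h := hcomm D hD hne
    set Da := D.map (MulAut.conj a).toMonoidHom
    set Δ := (diag a h).range with hΔ
    set M := D ⊔ Da
    have hDaD : Da ≤ centralizer (D : Set Y) :=
      le_centralizer_of_commutator_eq_bot (commutator_components_eq_bot (isComponent_conj a hD) hD hne)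
    -- the fixed points in `M` are the diagonal times a central group
    have hfix : ∀ m ∈ M, a * m * a⁻¹ = m → ∃ e ∈ D, ∃ z : Y, z ∈ D ∧ z ∈ Da ∧ m = e * z * (a * e * a⁻¹) := by
      intro m hm hma
      rw [← SetLike.mem_coe, coe_mul_of_right_le_normalizer_left D _
        (hDaD.trans (centralizer_le_normalizer _)), Set.mem_mul] at hm
      obtain ⟨d, hd, _, ⟨e, he, rfl⟩, rfl⟩ := hm
      refine ⟨e, he, e⁻¹ * d, mul_mem (inv_mem he) hd, ⟨e⁻¹ * d, mul_mem (inv_mem he) hd, ?_⟩, ?_⟩
      · have h2 : (a * d * a⁻¹) * e = d * (a * e * a⁻¹) := by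
          have h3 : a * (d * (a * e * a⁻¹)) * a⁻¹ = (a * d * a⁻¹) * e := by
            calc a * (d * (a * e * a⁻¹)) * a⁻¹ = a * d * (a * e * (a * a)⁻¹) := by group
              _ = a * d * (a * e) := by rw [ha, inv_one, mul_one]
              _ = a * d * (a⁻¹ * e) := by rw [hainv]
              _ = (a * d * a⁻¹) * e := by group
          rw [← h3]; exact hma
        show a * (e⁻¹ * d) * a⁻¹ = e⁻¹ * d
        calc a * (e⁻¹ * d) * a⁻¹ = (a * e * a⁻¹)⁻¹ * ((a * d * a⁻¹) * e) * e⁻¹ := by group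
          _ = (a * e * a⁻¹)⁻¹ * ((a * e * a⁻¹) * d) * e⁻¹ := by rw [h2, h d hd e he]
          _ = d * e⁻¹ := by group
          _ = e⁻¹ * d := by
            have h5 : e⁻¹ * d ∈ centralizer (D : Set Y) := by
              have : e⁻¹ * d = (a * (d * e⁻¹) * a⁻¹) := by
                calc e⁻¹ * d = e⁻¹ * (d * (a * e * a⁻¹)) * (a * e * a⁻¹)⁻¹ := by group
                  _ = e⁻¹ * ((a * d * a⁻¹) * e) * (a * e * a⁻¹)⁻¹ := by rw [h2]
                  _ = e⁻¹ * (e * (a * d * a⁻¹)) * (a * e * a⁻¹)⁻¹ := by rw [h e he d hd]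
                  _ = (a * d * a⁻¹) * (a * e * a⁻¹)⁻¹ := by group
                  _ = (a * e * a⁻¹)⁻¹ * (a * e * a⁻¹) * (a * d * a⁻¹) * (a * e * a⁻¹)⁻¹ := by group
                  _ = a * (d * e⁻¹) * a⁻¹ := by group
              rw [this]
              exact hDaD ⟨_, mul_mem hd (inv_mem he), rfl⟩
            have h6 := mem_centralizer_iff.mp h5 e he
            calc d * e⁻¹ = e * (e⁻¹ * d) * e⁻¹ := by group
              _ = (e⁻¹ * d) * e * e⁻¹ := by rw [h6]
              _ = e⁻¹ * d := mul_inv_cancel_right _ _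
      · show d * (a * e * a⁻¹) = _
        rw [mul_inv_cancel_left]
    have hKΔ : K ≤ Δ := by
      rw [← hperfK, commutator_le]
      intro x hx y hy
      have hxa : a * x * a⁻¹ = x := by
        rw [← mem_centralizer_singleton_iff.mp (hKa hx), mul_inv_cancel_right]
      have hya : a * y * a⁻¹ = y := by
        rw [← mem_centralizer_singleton_iff.mp (hKa hy), mul_inv_cancel_right]
      obtain ⟨e, he, z, hzD, hza, rfl⟩ := hfix x (hKD hx) hxa
      obtain ⟨f, hf, w, hwD, hwa, rfl⟩ := hfix y (hKD hy) hya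
      have cz : ∀ d ∈ D, Commute z d ∧ Commute z (a * d * a⁻¹) := fun d hd =>
        ⟨(mem_centralizer_iff.mp (hDaD hza) d hd).symm, h z hzD d hd⟩
      have cw : ∀ d ∈ D, Commute w d ∧ Commute w (a * d * a⁻¹) := fun d hd =>
        ⟨(mem_centralizer_iff.mp (hDaD hwa) d hd).symm, h w hwD d hd⟩
      refine ⟨⁅(⟨e, he⟩ : D), ⟨f, hf⟩⁆, ?_⟩
      rw [map_commutatorElement]
      show ⁅e * (a * e * a⁻¹), f * (a * f * a⁻¹)⁆ = ⁅e * z * (a * e * a⁻¹), f * w * (a * f * a⁻¹)⁆
      have e1 : e * z * (a * e * a⁻¹) = z * (e * (a * e * a⁻¹)) := by rw [← (cz e he).1.eq, mul_assoc]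
      have e2 : f * w * (a * f * a⁻¹) = w * (f * (a * f * a⁻¹)) := by rw [← (cw f hf).1.eq, mul_assoc]
      have c1 : Commute z (f * (a * f * a⁻¹)) := (cz f hf).1.mul_right (cz f hf).2
      have c2 : Commute w (e * (a * e * a⁻¹)) := (cw e he).1.mul_right (cw e he).2
      have c3 : Commute z w := (cz w hwD).1
      rw [e1, e2]
      exact (commutator_central_mul c3 ((cz e he).1.mul_right (cz e he).2) c1 c2
        ((cw f hf).1.mul_right (cw f hf).2)).symm
    refine le_antisymm hKΔ ?_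
    -- `K` is a component of the quasisimple group `Δ`
    haveI : Nontrivial Δ := by
      rw [Subgroup.nontrivial_iff_ne_bot]
      intro hb
      rw [hb, le_bot_iff] at hKΔ
      haveI := quasisimple_nontrivial hqK
      exact (Subgroup.nontrivial_iff_ne_bot _).mp this hKΔ
    have hqΔ : Cfsg.IsQuasisimple Δ :=
      isQuasisimple_of_surjective hD.2 (diag a h).rangeRestrict (diag a h).rangeRestrict_surjective
    have hsn : (K.subgroupOf Δ).IsSubnormal :=
      hK.1.comap (Subgroup.inclusion (hdiagC D h))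
    obtain he | he := component_eq_or_commutator_of_subnormal
      (G := Δ) (L := ⊤) ⟨IsSubnormal.top, isQuasisimple_of_mulEquiv hqΔ Subgroup.topEquiv.symm⟩ hsn le_top
    · exact fun x hx => (he.ge (mem_top (⟨x, hx⟩ : Δ)) : _)
    · exfalso
      apply quasisimple_not_isMulCommutative hqK
      rw [← le_centralizer_iff_isMulCommutative]
      intro x hx
      rw [mem_centralizer_iff]
      intro y hy
      have h1 := (commutator_eq_bot_iff_le_centralizer.mp he) (mem_top (⟨x, hKΔ hx⟩ : Δ))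
      exact congrArg Subtype.val (mem_centralizer_iff.mp h1 ⟨y, hKΔ hy⟩ hy)
  · exfalso
    push_neg at hex
    have hall : ∀ D : Subgroup Y, Cfsg.IsComponent D → K ≤ centralizer (D : Set Y) := by
      intro D hD
      set Da := D.map (MulAut.conj a).toMonoidHom with hDa
      by_cases hne : Da = D
      · have hns : ¬ K ≤ D := by
          have := hex D hD
          rwa [← hDa, hne, sup_idem] at this
        exact le_centralizer_of_fixed hD (mem_normalizer_iff_map_conj_eq.mpr hne) hperfK (hKJ D hD) hKa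
          ((hdich D hD.1).resolve_left hns)
      set h := hcomm D hD hne
      have hMs : (D ⊔ Da).IsSubnormal := by
        haveI hEn : (Cfsg.layer Y).Normal := inferInstance
        have hle : D ⊔ Da ≤ Cfsg.layer Y :=
          sup_le (component_le_layer hD) (component_le_layer (isComponent_conj a hD))
        refine IsSubnormal.step _ _ hle hEn.isSubnormal (normal_subgroupOf_of_le_normalizer ?_)
        intro x hx
        rw [mem_normalizer_iff_map_conj_eq, Subgroup.map_sup,
          mem_normalizer_iff_map_conj_eq.mp (layer_le_normalizer_component hD hx),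
          mem_normalizer_iff_map_conj_eq.mp (layer_le_normalizer_component (isComponent_conj a hD) hx)]
      have hc := (hdich _ hMs).resolve_left (hex D hD)
      intro k hk
      refine mem_centralizer_of_component_mod_center hD fun x hx => ?_
      have hKN : k ∈ normalizer (D : Set Y) := layer_le_normalizer_component hD (hKE hk)
      have hKNa : k ∈ normalizer (Da : Set Y) :=
        layer_le_normalizer_component (isComponent_conj a hD) (hKE hk)
      have hxD : ⁅k, x⁆ ∈ D := mul_mem ((mem_normalizer_iff.mp hKN x).mp hx) (inv_mem hx)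
      refine ⟨hxD, ?_⟩
      have hxa : a * x * a⁻¹ ∈ Da := ⟨x, hx, rfl⟩
      have hm : x * (a * x * a⁻¹) ∈ (D ⊔ Da) ⊓ centralizer {a} :=
        ⟨mul_mem_sup hx hxa, hdiagC D h ⟨⟨x, hx⟩, rfl⟩⟩
      have h1 := mem_centralizer_iff.mp (hc hk) _ hm
      have e : ⁅k, x⁆ = x * ((a * x * a⁻¹) * (k * (a * x * a⁻¹)⁻¹ * k⁻¹)) * x⁻¹ := by
        calc ⁅k, x⁆ = k * (x * (a * x * a⁻¹)) * (a * x * a⁻¹)⁻¹ * k⁻¹ * x⁻¹ := by
              rw [commutatorElement_def]; group
          _ = x * (a * x * a⁻¹) * k * (a * x * a⁻¹)⁻¹ * k⁻¹ * x⁻¹ := by rw [h1]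
          _ = _ := by group
      have hDaD : Da ≤ centralizer (D : Set Y) :=
        le_centralizer_of_commutator_eq_bot (commutator_components_eq_bot (isComponent_conj a hD) hD hne)
      show ⁅k, x⁆ ∈ centralizer (D : Set Y)
      rw [e]
      exact (mem_normalizer_iff.mp
        (normalizer_le_normalizer_centralizer' D (le_normalizer hx)) _).mp
          (hDaD (mul_mem hxa ((mem_normalizer_iff.mp hKNa _).mp (inv_mem hxa))))
    apply quasisimple_not_isMulCommutative hqK
    rw [← le_centralizer_iff_isMulCommutative]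
    refine le_centralizer_iff.mp ?_
    exact hKE.trans (sSup_le fun D hD => le_centralizer_iff.mp (hall D hD))

/-- A component of `C(a)` of even order lies in the layer, if the 2-layer does. -/
theorem component_le_layer_of_even {a : Y} (ha : a * a = 1) {K : Subgroup Y} (hKa : K ≤ centralizer {a})
    (hK : Cfsg.IsComponent (K.subgroupOf (centralizer ({a} : Set Y)))) (h2 : 2 ∣ Nat.card K) :
    K ≤ Cfsg.pLayer 2 Y := by
  haveI : Fact (Nat.Prime 2) := ⟨Nat.prime_two⟩
  set C := centralizer ({a} : Set Y) with hC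
  have hz : C = centralizer (zpowers a : Set Y) := by rw [hC, ← centralizer_closure, zpowers_eq_closure]
  have hT : IsPGroup 2 (zpowers a) := by
    intro x
    refine ⟨1, Subtype.ext ?_⟩
    obtain ⟨i, hi⟩ := mem_zpowers_iff.mp x.2
    rw [pow_one, coe_pow, ← hi, coe_one, ← zpow_natCast, ← zpow_mul, mul_comm, zpow_mul, zpow_natCast,
      pow_two, ha, one_zpow]
  have hle : K ≤ (Cfsg.pLayer 2 ↥C).map C.subtype := by
    rw [← map_subgroupOf_eq_of_le hKa]
    refine map_mono (component_le_pLayer ?_ hK)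
    exact (Nat.card_congr (subgroupOfEquivOfLe hKa).toEquiv).symm ▸ h2
  rw [hz] at hle
  exact hle.trans (map_pLayer_centralizer_le_two hT)
where
  component_le_pLayer {C : Type _} [Group C] [Finite C] {L : Subgroup C} (h2 : 2 ∣ Nat.card L)
      (hL : Cfsg.IsComponent L) : L ≤ Cfsg.pLayer 2 C := by
    haveI : Fact (Nat.Prime 2) := ⟨Nat.prime_two⟩
    refine pComponent_le_pLayer (isPComponent_of_isComponent hL ?_)
    obtain h | h := map_component_eq_bot_or_isComponent
      (QuotientGroup.mk'_surjective (Cfsg.pPrimeCore 2 C)) hL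
    · exfalso
      rw [Subgroup.map_eq_bot_iff, QuotientGroup.ker_mk'] at h
      exact CfsgLib.PCore.not_dvd_card_pPrimeCore (h2.trans (card_dvd_of_le h))
    · exact h

/-- A component not centralised by an element normalising it equals its commutator with it. -/
theorem component_eq_commutator_zpowers {D : Subgroup Y} (hD : Cfsg.IsComponent D) {t : Y}
    (htD : t ∈ normalizer (D : Set Y)) (hne : ¬ D ≤ centralizer {t}) : ⁅D, zpowers t⁆ = D := by
  have hle : ⁅D, zpowers t⁆ ≤ D := le_normalizer_iff_commutator_le_left.mp (zpowers_le.mpr htD)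
  have hn : ((⁅D, zpowers t⁆).subgroupOf D).Normal := by
    refine normal_subgroupOf_of_le_normalizer ?_
    exact normalizer_commutator_ge_left (H₁ := D) (H₂ := zpowers t)
  obtain h | h := component_eq_or_commutator_of_subnormal hD
    (IsSubnormal.step _ _ hle hD.1 hn) hle
  · exact h
  exfalso
  apply hne
  intro x hx
  have hc : t ∈ centralizer (D : Set Y) := by
    refine mem_centralizer_of_component_mod_center hD fun d hd => ?_
    have h1 : ⁅t, d⁆ ∈ ⁅D, zpowers t⁆ := by
      rw [← commutatorElement_inv]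
      exact inv_mem (commutator_mem_commutator hd (mem_zpowers t))
    exact ⟨hle h1, le_centralizer_of_commutator_eq_bot (by rw [commutator_comm]; exact h) h1⟩
  rw [mem_centralizer_singleton_iff]
  exact mem_centralizer_iff.mp hc x hx

end CfsgLib.LBalance
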