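import Mathlib

/-!
An element of the centre of a Sylow subgroup that is fixed by the normalizers of the fully normalized
centric subgroups containing it has no other conjugate in that Sylow subgroup.
-/

set_option autoImplicit false

namespace CfsgLib.LBalance

open Subgroup

variable {G : Type*} [Group G] [Finite G] {p : ℕ} [hp : Fact p.Prime]

omit [Finite G] hp in
/-- Conjugating a subgroup, as a set condition. -/
theorem map_conj_le_iff {D P : Subgroup G} {g : G} :
    D.map (MulAut.conj g).toMonoidHom ≤ P ↔ ∀ d ∈ D, g * d * g⁻¹ ∈ P :=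
  ⟨fun h d hd => h ⟨d, hd, rfl⟩, fun h => by rintro _ ⟨d, hd, rfl⟩; exact h d hd⟩

/-- A `p`-subgroup of a subgroup `X` is conjugate in `X` into a subgroup of `p'`-index in `X`. -/
theorem exists_conj_mem {X U Q : Subgroup G} (hU : IsPGroup p U) (hUX : U ≤ X)
    (hind : ¬ p ∣ U.relIndex X) (hQ : IsPGroup p Q) (hQX : Q ≤ X) :
    ∃ x ∈ X, ∀ q ∈ Q, x * q * x⁻¹ ∈ U := by
  obtain ⟨n, hn⟩ := IsPGroup.iff_card.mp (hU.comap_subtype (H := U) (K := X))
  let S : Sylow p X := (hU.comap_subtype (K := X)).toSylow hind
  obtain ⟨T, hT⟩ := (hQ.comap_subtype (K := X)).exists_le_sylow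
  obtain ⟨x, hx⟩ := MulAction.exists_smul_eq X T S
  refine ⟨x, x.2, fun q hq => ?_⟩
  have h1 : (x : X) * ⟨q, hQX hq⟩ * x⁻¹ ∈ ((x • T : Sylow p X) : Subgroup X) :=
    Subgroup.mem_map.mpr ⟨⟨q, hQX hq⟩, hT (show (⟨q, hQX hq⟩ : X) ∈ Q.subgroupOf X from hq), rfl⟩
  rw [hx] at h1
  exact h1

/-- The alternative to being in a proper subgroup: normalizers grow. -/
theorem lt_inf_normalizer {P D : Subgroup G} (hP : IsPGroup p P) (hD : D < P) :
    D < P ⊓ normalizer (D : Set G) := by
  haveI := hP.isNilpotent
  have h1 : D.subgroupOf P < ⊤ := by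
    rw [lt_top_iff_ne_top, Ne, subgroupOf_eq_top]
    exact not_le_of_gt hD
  have h2 := normalizerCondition_of_isNilpotent _ h1
  refine lt_of_le_of_ne (le_inf hD.le le_normalizer) fun he => h2.ne ?_
  rw [← subgroupOf_normalizer_eq hD.le]
  conv_lhs => rw [he]
  rw [inf_subgroupOf_left]

omit hp in
/-- The index of the trace on a normal subgroup divides the index. -/
theorem relIndex_dvd_index_of_normal_right {a c : Subgroup G} [c.Normal] : a.relIndex c ∣ a.index := by
  obtain ⟨t, ht⟩ := relIndex_dvd_index_of_normal c a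
  refine ⟨t, ?_⟩
  have h1 := relIndex_mul_index (inf_le_left : a ⊓ c ≤ a)
  have h2 := relIndex_mul_index (inf_le_right : a ⊓ c ≤ c)
  rw [inf_relIndex_left] at h1
  rw [inf_relIndex_right, ht] at h2
  have hpos : 0 < c.relIndex a := Nat.pos_of_ne_zero (index_ne_zero_of_finite (H := c.subgroupOf a))
  refine Nat.eq_of_mul_eq_mul_left hpos ?_
  rw [h1, ← h2]
  ring

omit [Finite G] hp in
/-- The normalizer of a subgroup normalizes its centralizer. -/
theorem normalizer_le_normalizer_centralizer' (H : Subgroup G) :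
    normalizer (H : Set G) ≤ normalizer (centralizer (H : Set G) : Set G) := by
  intro n hn
  have key : ∀ n ∈ normalizer (H : Set G), ∀ c ∈ centralizer (H : Set G),
      n * c * n⁻¹ ∈ centralizer (H : Set G) := by
    intro n hn c hc
    rw [mem_centralizer_iff] at hc ⊢
    intro x hx
    have h1 : n⁻¹ * x * n ∈ H := by simpa using (mem_normalizer_iff.mp (inv_mem hn) x).mp hx
    calc x * (n * c * n⁻¹) = n * ((n⁻¹ * x * n) * c) * n⁻¹ := by group
      _ = n * (c * (n⁻¹ * x * n)) * n⁻¹ := by rw [hc _ h1]
      _ = n * c * n⁻¹ * x := by group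
  rw [mem_normalizer_iff]
  exact fun c => ⟨key n hn c, fun h => by simpa [mul_assoc] using key n⁻¹ (inv_mem hn) _ h⟩

/-- An element of `Z(P)` fixed by the normalizers of the fully normalized centric subgroups containing
it has no other conjugate in `P`. -/
theorem fixed_of_local (P : Sylow p G) {v : G} (hv : v ∈ (P : Subgroup G))
    (hvc : (P : Subgroup G) ≤ centralizer {v})
    (hloc : ∀ D : Subgroup G, D ≤ (P : Subgroup G) → v ∈ D →
      ¬ p ∣ ((P : Subgroup G) ⊓ normalizer (D : Set G)).relIndex (normalizer (D : Set G)) →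
      (P : Subgroup G) ⊓ centralizer (D : Set G) ≤ D →
      ∀ n ∈ normalizer (D : Set G), n * v * n⁻¹ = v) :
    ∀ g : G, g * v * g⁻¹ ∈ (P : Subgroup G) → g * v * g⁻¹ = v := by
  suffices key : ∀ (m : ℕ) (D : Subgroup G), D ≤ (P : Subgroup G) → v ∈ D →
      Nat.card (P : Subgroup G) - Nat.card D ≤ m →
      ∀ g : G, (∀ d ∈ D, g * d * g⁻¹ ∈ (P : Subgroup G)) → g * v * g⁻¹ = v by
    intro g hg
    refine key _ (zpowers v) ((zpowers_le (g := v)).mpr hv) (mem_zpowers v) le_rfl g fun d hd => ?_
    obtain ⟨i, rfl⟩ := mem_zpowers_iff.mp hd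
    rw [← conj_zpow]
    exact zpow_mem hg i
  have hcomm : ∀ c ∈ (P : Subgroup G), c * v = v * c := fun c hc =>
    mem_centralizer_singleton_iff.mp (hvc hc)
  intro m
  induction m using Nat.strong_induction_on with
  | _ m ih =>
    intro D hDP hvD hm g hg
    by_cases hDeq : D = (P : Subgroup G)
    · subst hDeq
      have hgN : g ∈ normalizer ((P : Subgroup G) : Set G) := by
        have heq : (P : Subgroup G).map (MulAut.conj g).toMonoidHom = (P : Subgroup G) :=
          Subgroup.eq_of_le_of_card_ge (map_conj_le_iff.mpr hg)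
            (card_map_of_injective (MulAut.conj g).injective).ge
        rw [mem_normalizer_iff]
        intro x
        conv_rhs => rw [← heq]
        exact (mem_map_iff_mem (f := (MulAut.conj g).toMonoidHom) (MulAut.conj g).injective).symm
      refine hloc _ le_rfl hv ?_ inf_le_left g hgN
      rw [inf_eq_left.mpr le_normalizer]
      exact fun h => P.not_dvd_index (h.trans (relIndex_dvd_index_of_le (le_normalizer)))
    have hDlt : D < (P : Subgroup G) := lt_of_le_of_ne hDP hDeq
    -- everything strictly larger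
    have big : ∀ D' : Subgroup G, D' ≤ (P : Subgroup G) → v ∈ D' → Nat.card D < Nat.card D' →
        ∀ g' : G, (∀ d ∈ D', g' * d * g'⁻¹ ∈ (P : Subgroup G)) → g' * v * g'⁻¹ = v := by
      intro D' h1 h2 h3 g' h4
      have hle := card_le_of_le h1
      exact ih (Nat.card (P : Subgroup G) - Nat.card D') (by omega) D' h1 h2 le_rfl g' h4
    set P₀ := (P : Subgroup G)
    -- a fully normalized conjugate
    have hN1 : IsPGroup p (P₀ ⊓ normalizer (D : Set G) : Subgroup G) := P.2.to_le inf_le_left
    obtain ⟨R, hR⟩ := (hN1.comap_subtype (K := normalizer (D : Set G))).exists_le_sylow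
    set R₀ := (R : Subgroup (normalizer (D : Set G))).map (normalizer (D : Set G)).subtype with hR₀
    have hR₀p : IsPGroup p R₀ := R.2.map _
    obtain ⟨h, hhR⟩ : ∃ h : G, ∀ r ∈ R₀, h * r * h⁻¹ ∈ P₀ := by
      obtain ⟨T, hT⟩ := hR₀p.exists_le_sylow
      obtain ⟨c, hc⟩ := MulAction.exists_smul_eq G T P
      exact ⟨c, fun r hr => by
        have h1 : c * r * c⁻¹ ∈ ((c • T : Sylow p G) : Subgroup G) :=
          Subgroup.mem_map.mpr ⟨r, hT hr, rfl⟩
        rwa [hc] at h1⟩
    have hNR : P₀ ⊓ normalizer (D : Set G) ≤ R₀ := fun x hx =>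
      ⟨⟨x, hx.2⟩, hR (show (⟨x, hx.2⟩ : normalizer (D : Set G)) ∈ (P₀ ⊓ normalizer (D : Set G)).subgroupOf _
        from hx), rfl⟩
    have hgrow := lt_inf_normalizer P.2 hDlt
    have hDN : D ≤ P₀ ⊓ normalizer (D : Set G) := hgrow.le
    have hcardN : Nat.card D < Nat.card (P₀ ⊓ normalizer (D : Set G) : Subgroup G) :=
      not_le.mp fun hle => hgrow.ne (Subgroup.eq_of_le_of_card_ge hgrow.le hle)
    have hhv : h * v * h⁻¹ = v :=
      big _ inf_le_left (hDN hvD) hcardN h fun d hd => hhR d (hNR hd)
    set Ds := D.map (MulAut.conj h).toMonoidHom with hDs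
    have hDsP : Ds ≤ P₀ := map_conj_le_iff.mpr fun d hd => hhR d (hNR (hDN hd))
    have hvDs : v ∈ Ds := ⟨v, hvD, hhv⟩
    have hcardDs : Nat.card Ds = Nat.card D := card_map_of_injective (MulAut.conj h).injective
    have hNDs : normalizer (Ds : Set G) = (normalizer (D : Set G)).map (MulAut.conj h).toMonoidHom := by
      rw [hDs]; exact (map_equiv_normalizer_eq D (MulAut.conj h)).symm
    -- full normalization
    have hfull : ¬ p ∣ (P₀ ⊓ normalizer (Ds : Set G)).relIndex (normalizer (Ds : Set G)) := by
      intro hdvd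
      have hle : R₀.map (MulAut.conj h).toMonoidHom ≤ P₀ ⊓ normalizer (Ds : Set G) := by
        refine le_inf (map_conj_le_iff.mpr hhR) ?_
        rw [hNDs]
        exact map_mono (map_subtype_le _)
      have h1 := hdvd.trans (relIndex_dvd_of_le_left (normalizer (Ds : Set G)) hle)
      rw [hNDs, relIndex_map_map_of_injective _ _ (f := (MulAut.conj h).toMonoidHom)
        (MulAut.conj h).injective, hR₀] at h1
      apply R.not_dvd_index
      have e : ((R : Subgroup (normalizer (D : Set G))).map (normalizer (D : Set G)).subtype).relIndex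
          (normalizer (D : Set G)) = (R : Subgroup (normalizer (D : Set G))).index := by
        rw [relIndex, subgroupOf, comap_map_eq_self_of_injective (normalizer (D : Set G)).subtype_injective]
      rwa [e] at h1
    -- the normalizer of the fully normalized subgroup fixes `v`
    have hnfix : ∀ n ∈ normalizer (Ds : Set G), n * v * n⁻¹ = v := by
      intro n hn
      by_cases hcen : P₀ ⊓ centralizer (Ds : Set G) ≤ Ds
      · exact hloc Ds hDsP hvDs hfull hcen n hn
      set T := P₀ ⊓ centralizer (Ds : Set G)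
      have hTC : T ≤ centralizer (Ds : Set G) := inf_le_right
      have hTind : ¬ p ∣ T.relIndex (centralizer (Ds : Set G)) := by
        intro hdvd
        apply hfull
        have hnorm : (centralizer (Ds : Set G)).subgroupOf (normalizer (Ds : Set G)) |>.Normal :=
          normal_subgroupOf_of_le_normalizer (normalizer_le_normalizer_centralizer' _)
        haveI := hnorm
        refine hdvd.trans ?_
        have e : T = (P₀ ⊓ normalizer (Ds : Set G)) ⊓ centralizer (Ds : Set G) := by
          rw [inf_assoc, inf_eq_right.mpr (centralizer_le_normalizer _)]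
        rw [e, inf_relIndex_right]
        have h' := relIndex_dvd_index_of_normal_right
          (a := (P₀ ⊓ normalizer (Ds : Set G)).subgroupOf (normalizer (Ds : Set G)))
          (c := (centralizer (Ds : Set G)).subgroupOf (normalizer (Ds : Set G)))
        rwa [relIndex_subgroupOf (centralizer_le_normalizer _)] at h'
      -- conjugate `n T n⁻¹` back into `T`
      have hTp : IsPGroup p T := P.2.to_le inf_le_left
      obtain ⟨c, hc, hcT⟩ := exists_conj_mem hTp hTC hTind
        (hTp.map (MulAut.conj n).toMonoidHom) (by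
          rintro _ ⟨t, ht, rfl⟩
          exact (mem_normalizer_iff.mp (normalizer_le_normalizer_centralizer' _ hn) t).mp ht.2)
      have hcv : ∀ x : G, c * x * c⁻¹ = v → x = v := by
        intro x hx
        have h1 : v * c = c * v := mem_centralizer_iff.mp hc v hvDs
        calc x = c⁻¹ * (c * x * c⁻¹) * c := by group
          _ = c⁻¹ * v * c := by rw [hx]
          _ = v := by rw [mul_assoc, h1, inv_mul_cancel_left]
      apply hcv
      have hlt : Nat.card D < Nat.card (Ds ⊔ T : Subgroup G) := by
        rw [← hcardDs]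
        exact not_le.mp fun hle => hcen (le_trans le_sup_right
          (Subgroup.eq_of_le_of_card_ge le_sup_left hle).ge)
      have := big (Ds ⊔ T) (sup_le hDsP inf_le_left) (mem_sup_left hvDs) hlt (c * n) ?_
      · simpa [mul_assoc] using this
      intro d hd
      have hle : Ds ⊔ T ≤ P₀.comap (MulAut.conj (c * n)).toMonoidHom := by
        refine sup_le (fun x hx => ?_) (fun x hx => ?_)
        · show c * n * x * (c * n)⁻¹ ∈ P₀
          have hnx : n * x * n⁻¹ ∈ Ds := (mem_normalizer_iff.mp hn x).mp hx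
          have h1 : n * x * n⁻¹ * c = c * (n * x * n⁻¹) := mem_centralizer_iff.mp hc _ hnx
          have e : c * n * x * (c * n)⁻¹ = c * (n * x * n⁻¹) * c⁻¹ := by group
          rw [e, ← h1, mul_inv_cancel_right]
          exact hDsP hnx
        · show c * n * x * (c * n)⁻¹ ∈ P₀
          have h1 := (hcT (n * x * n⁻¹) ⟨x, hx, rfl⟩).1
          rwa [show c * n * x * (c * n)⁻¹ = c * (n * x * n⁻¹) * c⁻¹ by group]
      exact hle hd
    -- transport back
    set D' := D.map (MulAut.conj g).toMonoidHom
    have hD'P : D' ≤ P₀ := map_conj_le_iff.mpr hg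
    have hvN : v ∈ P₀ ⊓ normalizer (D' : Set G) := by
      refine ⟨hv, centralizer_le_normalizer _ (mem_centralizer_iff.mpr fun x hx => hcomm x (hD'P hx))⟩
    have hD'lt : D' < P₀ := lt_of_le_of_ne hD'P fun he => hDeq (Subgroup.eq_of_le_of_card_ge hDP
      (by rw [← he, card_map_of_injective (MulAut.conj g).injective]))
    have hgrow' := lt_inf_normalizer P.2 hD'lt
    have hcard' : Nat.card D < Nat.card (P₀ ⊓ normalizer (D' : Set G) : Subgroup G) := by
      rw [← card_map_of_injective (K := D) (f := (MulAut.conj g).toMonoidHom) (MulAut.conj g).injective]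
      exact not_le.mp fun hle => hgrow'.ne (Subgroup.eq_of_le_of_card_ge hgrow'.le hle)
    set y := h * g⁻¹
    have hmapy : (normalizer (D' : Set G)).map (MulAut.conj y).toMonoidHom ≤ normalizer (Ds : Set G) := by
      have e : Ds = D'.map (MulAut.conj y).toMonoidHom := by
        rw [map_map, hDs]
        congr 1
        ext x
        simp [y, mul_assoc]
      rw [e]
      exact (map_equiv_normalizer_eq D' (MulAut.conj y)).le
    obtain ⟨n, hn, hnU⟩ := exists_conj_mem (X := normalizer (Ds : Set G))
      (P.2.to_le (inf_le_left : P₀ ⊓ normalizer (Ds : Set G) ≤ P₀)) inf_le_right hfull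
      ((P.2.to_le (inf_le_left : P₀ ⊓ normalizer (D' : Set G) ≤ P₀)).map (MulAut.conj y).toMonoidHom)
      ((map_mono inf_le_right).trans hmapy)
    have hny := big _ inf_le_left hvN hcard' (n * y) fun d hd => by
      have h1 := (hnU (y * d * y⁻¹) ⟨d, hd, rfl⟩).1
      rwa [show n * y * d * (n * y)⁻¹ = n * (y * d * y⁻¹) * n⁻¹ by group]
    have h1 : y * v * y⁻¹ = v := by
      refine mul_left_cancel (a := n) (mul_right_cancel (b := n⁻¹) ?_)
      rw [hnfix n hn]
      rwa [show n * (y * v * y⁻¹) * n⁻¹ = n * y * v * (n * y)⁻¹ by group]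
    have h2 : g⁻¹ * v * g = v := by
      refine mul_left_cancel (a := h) (mul_right_cancel (b := h⁻¹) ?_)
      rw [hhv]
      rwa [show h * (g⁻¹ * v * g) * h⁻¹ = y * v * y⁻¹ by simp [y, mul_assoc]]
    calc g * v * g⁻¹ = g * (g⁻¹ * v * g) * g⁻¹ := by rw [h2]
      _ = v := by group

end CfsgLib.LBalance
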