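import Cfsg.Agent.Lib.LBalance.Fusion
import Cfsg.Agent.Lib.Involutions.BrauerSuzuki
import Cfsg.Agent.Lib.OddOrder41.NormalElementary
import Cfsg.Agent.Lib.PCore.Basic

/-!
Glauberman: if `K` is normal with trivial core and trivial centraliser in the whole group and `S` is a
Sylow 2-subgroup of `K`, the derived subgroup of the centraliser of `S` has odd order.
-/

set_option autoImplicit false

namespace CfsgLib.LBalance

open Subgroup
open scoped commutatorElement Pointwise

variable {A : Type*} [Group A] [Finite A]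

omit [Finite A] in
/-- For a central subgroup `Z` of `M`, the power by the index is multiplicative with values in `Z`. -/
theorem pow_relIndex_central {Z M : Subgroup A} (hZM : Z ≤ M) (hMZ : M ≤ centralizer (Z : Set A))
    [Finite M] :
    (∀ c ∈ M, c ^ Z.relIndex M ∈ Z) ∧
      ∀ a ∈ M, ∀ b ∈ M, (a * b) ^ Z.relIndex M = a ^ Z.relIndex M * b ^ Z.relIndex M := by
  set Z' := Z.subgroupOf M
  have hc : Z' ≤ center M := fun z hz => mem_center_iff.mpr fun c =>
    Subtype.ext (mem_centralizer_iff.mp (hMZ c.2) z hz).symm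
  haveI : Z'.Normal := ⟨fun z hz g => by
    rw [mem_center_iff.mp (hc hz) g, mul_inv_cancel_right]; exact hz⟩
  refine ⟨fun c hc' => pow_index_mem Z' ⟨c, hc'⟩, fun a ha b hb => ?_⟩
  have hidx : Z'.index = (center M).index * Z'.relIndex (center M) := by
    rw [mul_comm, relIndex_mul_index hc]
  have h1 : ((⟨a, ha⟩ : M) * ⟨b, hb⟩) ^ Z'.index =
      (⟨a, ha⟩ : M) ^ Z'.index * (⟨b, hb⟩ : M) ^ Z'.index := by
    rw [hidx, pow_mul, pow_mul, pow_mul]
    have h2 : ((⟨a, ha⟩ : M) * ⟨b, hb⟩) ^ (center M).index =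
        (⟨a, ha⟩ : M) ^ (center M).index * (⟨b, hb⟩ : M) ^ (center M).index :=
      congrArg Subtype.val
        (map_mul (MonoidHom.transferCenterPow M) (⟨a, ha⟩ : M) (⟨b, hb⟩ : M))
    rw [h2]
    exact Commute.mul_pow (mem_center_iff.mp ((center M).pow_index_mem ⟨b, hb⟩) _) _
  exact congrArg Subtype.val h1

/-- A Sylow subgroup of a normalized subgroup that is normalized by a given `p`-group. -/
theorem exists_sylow_normalized {p : ℕ} [hp : Fact p.Prime] {R X : Subgroup A} (hR : IsPGroup p R)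
    (hRX : R ≤ normalizer (X : Set A)) :
    ∃ U : Subgroup A, U ≤ X ∧ IsPGroup p U ∧ ¬ p ∣ U.relIndex X ∧ R ≤ normalizer (U : Set A) ∧
      IsPGroup p (R ⊔ U : Subgroup A) ∧ R ⊓ X ≤ U := by
  set W := R ⊔ X
  obtain ⟨P, hP⟩ := (hR.comap_subtype (K := W)).exists_le_sylow
  set P₀ := (P : Subgroup W).map W.subtype
  have hP₀ : IsPGroup p P₀ := P.2.map _
  have hP₀W : P₀ ≤ W := map_subtype_le _
  have hRP : R ≤ P₀ := fun r hr =>
    ⟨⟨r, mem_sup_left hr⟩, hP (show (⟨r, mem_sup_left hr⟩ : W) ∈ R.subgroupOf W from hr), rfl⟩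
  have hWX : W ≤ normalizer (X : Set A) := sup_le hRX le_normalizer
  refine ⟨P₀ ⊓ X, inf_le_right, hP₀.to_le inf_le_left, ?_, ?_, ?_, le_inf (inf_le_left.trans hRP) inf_le_right⟩
  · intro hdvd
    haveI : (X.subgroupOf W).Normal := normal_subgroupOf_of_le_normalizer hWX
    apply P.not_dvd_index
    rw [inf_relIndex_right] at hdvd
    refine hdvd.trans ?_
    have h := relIndex_dvd_index_of_normal_right (a := (P : Subgroup W)) (c := X.subgroupOf W)
    have e : P₀.subgroupOf W = (P : Subgroup W) := comap_map_eq_self_of_injective W.subtype_injective _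
    rw [← e, relIndex_subgroupOf (le_sup_right : X ≤ W)] at h
    rw [← e]
    exact h
  · intro r hr
    refine mem_normalizer_iff.mpr fun y => ?_
    have h1 := mem_normalizer_iff.mp (hRX hr) y
    have h2 := mem_normalizer_iff.mp (le_normalizer (hRP hr) : r ∈ normalizer (P₀ : Set A)) y
    simp only [mem_inf]
    exact and_congr h2 h1
  · exact hP₀.to_le (sup_le hRP inf_le_left)

variable (K : Subgroup A) [K.Normal] {S : Subgroup A}

/-- The local step. -/
theorem fix_of_local {v : A} (hSK : S ≤ K) (hv2 : orderOf v = 2)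
    (hvC : v ∈ ⁅centralizer (S : Set A), centralizer (S : Set A)⁆)
    (hS0 : IsPGroup 2 (S ⊔ zpowers v : Subgroup A)) (hS0K : (S ⊔ zpowers v) ⊓ K = S)
    {D : Subgroup A} (hDS : D ≤ S ⊔ zpowers v) (hvD : v ∈ D)
    (hfull : ¬ 2 ∣ ((S ⊔ zpowers v) ⊓ normalizer (D : Set A)).relIndex
      ((K ⊔ zpowers v) ⊓ normalizer (D : Set A)))
    (hcent : (S ⊔ zpowers v) ⊓ centralizer (D : Set A) ≤ D)
    {k : A} (hk : k ∈ K) (hkD : k ∈ normalizer (D : Set A)) : k * v * k⁻¹ = v := by
  haveI : Fact (Nat.Prime 2) := ⟨Nat.prime_two⟩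
  set C := centralizer (S : Set A) with hCdef
  set S₀ := S ⊔ zpowers v with hS₀
  have hvCS : v ∈ C := commutator_le_self C hvC
  set D₀ := D ⊓ K with hD₀
  have hD₀S : D₀ ≤ S := by rw [← hS0K]; exact inf_le_inf_right _ hDS
  set M := K ⊓ centralizer (D₀ : Set A) with hM
  set Z₀ := D₀ ⊓ centralizer (D₀ : Set A) with hZ₀
  have hZM : Z₀ ≤ M := le_inf (inf_le_left.trans inf_le_right) inf_le_right
  have hMZ : M ≤ centralizer (Z₀ : Set A) :=
    inf_le_right.trans (centralizer_le (SetLike.coe_subset_coe.mpr inf_le_left))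
  have hCD₀ : ∀ w ∈ C, ∀ d ∈ D₀, w * d = d * w := fun w hw d hd =>
    (mem_centralizer_iff.mp hw d (hD₀S hd)).symm
  have hmemD : ∀ d ∈ D, ∃ d₀ ∈ D₀, ∃ i : ℤ, d = d₀ * v ^ i := by
    intro d hd
    have hn : zpowers v ≤ normalizer (S : Set A) :=
      (zpowers_le.mpr hvCS).trans (centralizer_le_normalizer _)
    have h1 : d ∈ (S : Set A) * (zpowers v : Set A) := by
      rw [← coe_mul_of_right_le_normalizer_left S (zpowers v) hn]
      exact hDS hd
    obtain ⟨s, hs, _, ⟨i, rfl⟩, rfl⟩ := Set.mem_mul.mp h1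
    refine ⟨s, ⟨?_, hSK hs⟩, i, rfl⟩
    have := D.mul_mem hd (D.inv_mem (D.zpow_mem hvD i))
    rwa [mul_inv_cancel_right] at this
  have hodd : ¬ 2 ∣ Z₀.relIndex M := by
    intro hdvd
    have hvM : zpowers v ≤ normalizer (M : Set A) := by
      refine zpowers_le.mpr ?_
      have h1 : v ∈ normalizer (K : Set A) := le_normalizer_of_normal (mem_top v)
      have h2 : v ∈ normalizer (centralizer (D₀ : Set A) : Set A) :=
        le_normalizer (mem_centralizer_iff.mpr fun d hd => (hCD₀ v hvCS d hd).symm)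
      rw [mem_normalizer_iff] at h1 h2 ⊢
      intro y
      simp only [hM, mem_inf]
      exact and_congr (h1 y) (h2 y)
    have hv2g : IsPGroup 2 (zpowers v) := IsPGroup.of_card (n := 1) (by rw [Nat.card_zpowers, hv2, pow_one])
    obtain ⟨U, hUM, hU, hUi, hvU, hT, -⟩ := exists_sylow_normalized hv2g hvM
    have hZ2 : IsPGroup 2 Z₀ := (hS0.to_le le_sup_left).to_le (inf_le_left.trans hD₀S)
    have hZU : Z₀ ≤ U := by
      obtain ⟨x, hx, hxz⟩ := exists_conj_mem hU hUM hUi hZ2 hZM
      intro z hz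
      have h := hxz z hz
      rwa [← (mem_centralizer_iff.mp (hMZ hx) z hz), mul_inv_cancel_right] at h
    have hUZ : ¬ U ≤ Z₀ := fun h => hUi (le_antisymm hZU h ▸ hdvd)
    set T := zpowers v ⊔ U
    haveI := hT.isNilpotent
    haveI : (U.subgroupOf T).Normal :=
      normal_subgroupOf_of_le_normalizer (sup_le hvU le_normalizer)
    obtain ⟨y, hyU, hyZ, hy⟩ := CfsgLib.OddOrder41.exists_central_step (U.subgroupOf T) (Z₀.subgroupOf T)
      (fun h => hUZ fun x hx => h (show (⟨x, mem_sup_right hx⟩ : T) ∈ U.subgroupOf T from hx))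
    set u := (y : A)
    have huM : u ∈ M := hUM hyU
    have huv : ⁅u, v⁆ ∈ Z₀ := hy ⟨v, mem_sup_left (mem_zpowers v)⟩
    have huD₀ : ∀ d ∈ D₀, u * d * u⁻¹ = d := fun d hd => by
      rw [← mem_centralizer_iff.mp huM.2 d hd, mul_inv_cancel_right]
    have huvD : u * v * u⁻¹ ∈ D := by
      have := D.mul_mem (huv.1.1) hvD
      rwa [commutatorElement_def, inv_mul_cancel_right] at this
    have huN : u ∈ normalizer (D : Set A) := by
      have hle : D.map (MulAut.conj u).toMonoidHom ≤ D := by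
        rintro _ ⟨d, hd, rfl⟩
        obtain ⟨d₀, hd₀, i, rfl⟩ := hmemD d hd
        show u * (d₀ * v ^ i) * u⁻¹ ∈ D
        rw [show u * (d₀ * v ^ i) * u⁻¹ = (u * d₀ * u⁻¹) * (u * v ^ i * u⁻¹) by group, huD₀ d₀ hd₀,
          ← conj_zpow]
        exact D.mul_mem hd₀.1 (D.zpow_mem huvD i)
      have heq := Subgroup.eq_of_le_of_card_ge hle (card_map_of_injective (MulAut.conj u).injective).ge
      rw [mem_normalizer_iff]
      intro x
      conv_rhs => rw [← heq]
      exact (mem_map_iff_mem (f := (MulAut.conj u).toMonoidHom) (MulAut.conj u).injective).symm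
    have hup : IsPGroup 2 (zpowers u) := hU.to_le (zpowers_le.mpr hyU)
    have huX : u ∈ (K ⊔ zpowers v) ⊓ normalizer (D : Set A) := ⟨mem_sup_left huM.1, huN⟩
    obtain ⟨c, hc, hcu⟩ := exists_conj_mem (X := (K ⊔ zpowers v) ⊓ normalizer (D : Set A))
      (U := S₀ ⊓ normalizer (D : Set A)) (hS0.to_le inf_le_left)
      (inf_le_inf_right _ (sup_le_sup_right hSK _)) hfull hup (zpowers_le.mpr huX)
    have hcuv : (c * u * c⁻¹) * v = v * (c * u * c⁻¹) := by
      have h1 : c * u * c⁻¹ ∈ centralizer ({v} : Set A) := by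
        refine (sup_le ?_ ?_ : S₀ ≤ _) (hcu u (mem_zpowers u)).1
        · exact fun s hs => mem_centralizer_singleton_iff.mpr (mem_centralizer_iff.mp hvCS s hs)
        · exact zpowers_le.mpr (mem_centralizer_singleton_iff.mpr rfl)
      exact mem_centralizer_singleton_iff.mp h1
    set v' := c⁻¹ * v * c
    have hv'u : u * v' = v' * u := by
      calc u * v' = c⁻¹ * ((c * u * c⁻¹) * v) * c := by simp [v', mul_assoc]
        _ = c⁻¹ * (v * (c * u * c⁻¹)) * c := by rw [hcuv]
        _ = v' * u := by simp [v', mul_assoc]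
    have hv'D : v' ∈ D := by
      have := (mem_normalizer_iff.mp (inv_mem hc.2) v).mp hvD
      simpa [v'] using this
    -- so `u` centralises `v`
    have huv' : u * v * u⁻¹ = v := by
      by_cases hvK : v ∈ K
      · exact huD₀ v ⟨hvD, hvK⟩
      obtain ⟨d₀, hd₀, i, hi⟩ := hmemD v' hv'D
      rcases Int.even_or_odd i with ⟨j, hj⟩ | ⟨j, hj⟩
      · exfalso
        apply hvK
        have hvi : v ^ i = 1 := orderOf_dvd_iff_zpow_eq_one.mp (by rw [hv2, hj]; exact ⟨j, by push_cast; ring⟩)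
        rw [hvi, mul_one] at hi
        have h1 : c * d₀ * c⁻¹ = v := by rw [← hi]; simp [v', mul_assoc]
        rw [← h1]
        exact Subgroup.Normal.conj_mem inferInstance d₀ hd₀.2 c
      · have hvi : v ^ i = v := by
          have h1 : v ^ (2 * j) = 1 := orderOf_dvd_iff_zpow_eq_one.mp (by rw [hv2]; exact ⟨j, by push_cast; ring⟩)
          rw [hj, zpow_add, h1, one_mul, zpow_one]
        rw [hvi] at hi
        have h1 : v = d₀⁻¹ * v' := by rw [hi, inv_mul_cancel_left]
        rw [h1, show u * (d₀⁻¹ * v') * u⁻¹ = (u * d₀ * u⁻¹)⁻¹ * (u * v' * u⁻¹) by group, huD₀ d₀ hd₀, hv'u,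
          mul_inv_cancel_right]
    have huCD : u ∈ centralizer (D : Set A) := by
      rw [mem_centralizer_iff]
      intro d hd
      obtain ⟨d₀, hd₀, i, rfl⟩ := hmemD d hd
      have h1 : u * (d₀ * v ^ i) * u⁻¹ = d₀ * v ^ i := by
        rw [show u * (d₀ * v ^ i) * u⁻¹ = (u * d₀ * u⁻¹) * (u * v ^ i * u⁻¹) by group, huD₀ d₀ hd₀,
          ← conj_zpow, huv']
      exact (mul_inv_eq_iff_eq_mul.mp h1).symm
    -- the 2-part of the centraliser of `D` lies in `D`
    have hle : zpowers u ≤ D := by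
      set X := (K ⊔ zpowers v) ⊓ centralizer (D : Set A)
      set N := (K ⊔ zpowers v) ⊓ normalizer (D : Set A)
      have hXN : X ≤ N := inf_le_inf_left _ (centralizer_le_normalizer _)
      have hXn : N ≤ normalizer (X : Set A) := by
        intro n hn
        have a1 := mem_normalizer_iff.mp (le_normalizer hn.1 :
          n ∈ normalizer ((K ⊔ zpowers v : Subgroup A) : Set A))
        have a2 := mem_normalizer_iff.mp (normalizer_le_normalizer_centralizer' D hn.2)
        rw [mem_normalizer_iff]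
        intro y
        simp only [X, mem_inf]
        exact and_congr (a1 y) (a2 y)
      haveI : (X.subgroupOf N).Normal := normal_subgroupOf_of_le_normalizer hXn
      have hind : ¬ 2 ∣ (S₀ ⊓ centralizer (D : Set A)).relIndex X := by
        intro h
        apply hfull
        refine h.trans ?_
        have h' := relIndex_dvd_index_of_normal_right (a := (S₀ ⊓ normalizer (D : Set A)).subgroupOf N)
          (c := X.subgroupOf N)
        rw [relIndex_subgroupOf hXN] at h'
        rw [← inf_relIndex_right] at h'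
        have e : S₀ ⊓ normalizer (D : Set A) ⊓ X = S₀ ⊓ centralizer (D : Set A) := by
          apply le_antisymm
          · exact le_inf (inf_le_left.trans inf_le_left) (inf_le_right.trans inf_le_right)
          · exact le_inf (inf_le_inf_left _ (centralizer_le_normalizer _))
              (inf_le_inf_right _ (sup_le_sup_right hSK _))
        rwa [e] at h'
      obtain ⟨x, hx, hxu⟩ := exists_conj_mem (hS0.to_le inf_le_left)
        (inf_le_inf_right _ (sup_le_sup_right hSK _) : S₀ ⊓ centralizer (D : Set A) ≤ X) hind hup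
        (zpowers_le.mpr ⟨huX.1, huCD⟩)
      refine zpowers_le.mpr ?_
      have h1 : x * u * x⁻¹ ∈ D := hcent (hxu u (mem_zpowers u))
      have h2 := mem_centralizer_iff.mp hx.2 _ h1
      have h3 : x * u * x⁻¹ = u := mul_left_cancel (a := x) (by rw [← h2]; group)
      rwa [h3] at h1
    exact hyZ ⟨⟨hle (mem_zpowers u), huM.1⟩, huM.2⟩
  obtain ⟨hpowZ, hpowmul⟩ := pow_relIndex_central hZM hMZ
  set m := Z₀.relIndex M
  have hcM : ∀ w ∈ C, w * k * w⁻¹ * k⁻¹ ∈ M := by
    intro w hw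
    refine ⟨K.mul_mem ((inferInstance : K.Normal).conj_mem k hk w) (K.inv_mem hk), ?_⟩
    show _ ∈ centralizer (D₀ : Set A)
    rw [mem_centralizer_iff]
    intro d hd
    have hd' : k⁻¹ * d * k ∈ D₀ := by
      refine ⟨by simpa using (mem_normalizer_iff.mp (inv_mem hkD) d).mp hd.1, ?_⟩
      have := (inferInstance : K.Normal).conj_mem d hd.2 k⁻¹
      rwa [inv_inv] at this
    calc d * (w * k * w⁻¹ * k⁻¹) = (d * w) * k * w⁻¹ * k⁻¹ := by group
      _ = (w * d) * k * w⁻¹ * k⁻¹ := by rw [hCD₀ w hw d hd]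
      _ = w * k * ((k⁻¹ * d * k) * w⁻¹) * k⁻¹ := by group
      _ = w * k * (w⁻¹ * (k⁻¹ * d * k)) * k⁻¹ := by rw [← hCD₀ w⁻¹ (inv_mem hw) _ hd']
      _ = w * k * w⁻¹ * k⁻¹ * d := by group
  haveI hZc : IsMulCommutative Z₀ := ⟨⟨fun a b => Subtype.ext (mem_centralizer_iff.mp b.2.2 a a.2.1)⟩⟩
  let φ : C →* Z₀ :=
    MonoidHom.mk' (fun w => ⟨((w : A) * k * (w : A)⁻¹ * k⁻¹) ^ m, hpowZ _ (hcM w w.2)⟩) fun a b => by
      apply Subtype.ext
      set x := (b : A) * k * (b : A)⁻¹ * k⁻¹
      have hxz := hpowZ x (hcM b b.2)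
      have hax : ((a : A) * x * (a : A)⁻¹) ∈ M := by
        refine ⟨(inferInstance : K.Normal).conj_mem x (hcM b b.2).1 a, ?_⟩
        show _ ∈ centralizer (D₀ : Set A)
        rw [mem_centralizer_iff]
        intro d hd
        calc d * ((a : A) * x * (a : A)⁻¹) = ((a : A) * d) * x * (a : A)⁻¹ := by
              rw [hCD₀ a a.2 d hd]; group
          _ = a * (d * x) * (a : A)⁻¹ := by group
          _ = a * (x * d) * (a : A)⁻¹ := by rw [mem_centralizer_iff.mp (hcM b b.2).2 d hd]
          _ = a * x * ((d * (a : A)⁻¹)) := by group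
          _ = a * x * ((a : A)⁻¹ * d) := by rw [← hCD₀ (a : A)⁻¹ (inv_mem a.2) d hd]
          _ = a * x * (a : A)⁻¹ * d := by group
      show ((a * b : A) * k * (a * b : A)⁻¹ * k⁻¹) ^ m = (a * k * (a : A)⁻¹ * k⁻¹) ^ m * x ^ m
      rw [show (a * b : A) * k * (a * b : A)⁻¹ * k⁻¹ = (a * x * (a : A)⁻¹) * (a * k * (a : A)⁻¹ * k⁻¹) by
          simp [x, mul_assoc],
        hpowmul _ hax _ (hcM a a.2), conj_pow, hCD₀ a a.2 _ hxz.1, mul_inv_cancel_right]
      exact (mem_centralizer_iff.mp hxz.2 _ (hpowZ _ (hcM a a.2)).1).symm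
  have hker : ⁅C, C⁆ ≤ φ.ker.map C.subtype := by
    rw [commutator_le]
    intro a ha b hb
    refine ⟨⁅(⟨a, ha⟩ : C), (⟨b, hb⟩ : C)⁆, ?_, rfl⟩
    rw [SetLike.mem_coe, MonoidHom.mem_ker, map_commutatorElement, commutatorElement_eq_one_iff_mul_comm]
    exact hZc.is_comm.comm _ _
  obtain ⟨w, hw, hwv⟩ := hker hvC
  have hpow : (v * k * v⁻¹ * k⁻¹) ^ m = 1 := by
    have h := congrArg Subtype.val (MonoidHom.mem_ker.mp hw)
    simpa [φ, show (w : A) = v from hwv] using h
  have hxD : v * k * v⁻¹ * k⁻¹ ∈ D := by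
    have := D.mul_mem hvD ((mem_normalizer_iff.mp hkD _).mp (D.inv_mem hvD))
    rwa [show v * (k * v⁻¹ * k⁻¹) = v * k * v⁻¹ * k⁻¹ by group] at this
  obtain ⟨n, hn⟩ := (hS0.to_le hDS) ⟨_, hxD⟩
  have h1 : orderOf (v * k * v⁻¹ * k⁻¹) = 1 :=
    Nat.eq_one_of_dvd_coprimes
      (Nat.Coprime.pow_left n ((Nat.prime_two.coprime_iff_not_dvd).mpr hodd))
      (orderOf_dvd_of_pow_eq_one (by simpa using congrArg Subtype.val hn))
      (orderOf_dvd_of_pow_eq_one hpow)
  rw [orderOf_eq_one_iff] at h1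
  have h2 : v * k = k * v := by
    calc v * k = (v * k * v⁻¹ * k⁻¹) * (k * v) := by group
      _ = k * v := by rw [h1, one_mul]
  rw [← h2, mul_inv_cancel_right]

/-- Glauberman's theorem on centralisers of Sylow 2-subgroups. -/
theorem not_two_dvd_card_commutator_centralizer (hC : centralizer (K : Set A) = ⊥)
    (hO : Cfsg.pPrimeCore 2 K = ⊥) (hSK : S ≤ K) (hS : IsPGroup 2 S) (hSi : ¬ 2 ∣ S.relIndex K) :
    ¬ 2 ∣ Nat.card (⁅centralizer (S : Set A), centralizer (S : Set A)⁆ : Subgroup A) := by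
  haveI : Fact (Nat.Prime 2) := ⟨Nat.prime_two⟩
  intro hdvd
  obtain ⟨v', hv'⟩ := exists_prime_orderOf_dvd_card'
    (G := (⁅centralizer (S : Set A), centralizer (S : Set A)⁆ : Subgroup A)) 2 hdvd
  have hvC := v'.2
  set v : A := (v' : A) with hvdef
  have hv2 : orderOf v = 2 := by rw [hvdef, Subgroup.orderOf_coe]; exact hv'
  have hvCS : v ∈ centralizer (S : Set A) := commutator_le_self _ hvC
  set S₀ := S ⊔ zpowers v with hS₀
  set H := K ⊔ zpowers v with hH
  have hzn : zpowers v ≤ normalizer (S : Set A) := (zpowers_le.mpr hvCS).trans (centralizer_le_normalizer _)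
  have hS0 : IsPGroup 2 S₀ := hS.to_sup_of_normal_left'
    (IsPGroup.of_card (n := 1) (by rw [Nat.card_zpowers, hv2, pow_one])) hzn
  have hle : S ≤ S₀ ⊓ K := le_inf le_sup_left hSK
  have hS0K : S₀ ⊓ K = S := by
    refine (eq_of_le_of_not_lt hle fun hlt => ?_).symm
    apply hSi
    have h1 := relIndex_mul_relIndex S (S₀ ⊓ K) K hle inf_le_right
    rw [← h1]
    refine dvd_mul_of_dvd_left ?_ _
    obtain ⟨j, hj⟩ := ((hS0.to_le inf_le_left : IsPGroup 2 (S₀ ⊓ K : Subgroup A))).index (S.subgroupOf (S₀ ⊓ K))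
    rcases j with _ | j
    · exfalso
      rw [pow_zero, Subgroup.index_eq_one, subgroupOf_eq_top] at hj
      exact not_le_of_gt hlt hj
    · rw [relIndex, hj]
      exact dvd_pow_self 2 (Nat.succ_ne_zero j)
  have hSH : S₀ ≤ H := sup_le_sup_right hSK _
  have hS0H : ¬ 2 ∣ S₀.relIndex H := by
    intro h
    apply hSi
    have e1 : K ⊔ S₀ = H := by rw [hS₀, ← sup_assoc, sup_eq_left.mpr hSK]
    have h1 := relIndex_mul_relIndex S S₀ H le_sup_left hSH
    have h2 := relIndex_mul_relIndex S K H hSK le_sup_left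
    have h3 : K.relIndex H = S.relIndex S₀ := by
      rw [← e1, sup_comm, relIndex_sup_right, ← inf_relIndex_right K S₀, inf_comm, hS0K]
    rw [h3] at h2
    have h4 : S.relIndex S₀ * S₀.relIndex H = S.relIndex S₀ * S.relIndex K := by
      rw [h1, ← h2, mul_comm]
    have hne : S.relIndex S₀ ≠ 0 := index_ne_zero_of_finite
    rwa [← Nat.eq_of_mul_eq_mul_left (Nat.pos_of_ne_zero hne) h4]
  let P : Sylow 2 H := (hS0.comap_subtype (K := H)).toSylow hS0H
  have hPc : (P : Subgroup H) ≤ centralizer {(⟨v, mem_sup_right (mem_zpowers v)⟩ : H)} := by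
    intro x hx
    rw [mem_centralizer_singleton_iff]
    apply Subtype.ext
    have h1 : S₀ ≤ centralizer ({v} : Set A) := by
      refine sup_le (fun s hs => mem_centralizer_singleton_iff.mpr (mem_centralizer_iff.mp hvCS s hs)) ?_
      exact zpowers_le.mpr (mem_centralizer_singleton_iff.mpr rfl)
    exact mem_centralizer_singleton_iff.mp (h1 hx)
  have hvP : (⟨v, mem_sup_right (mem_zpowers v)⟩ : H) ∈ (P : Subgroup H) :=
    mem_sup_right (mem_zpowers v)
  set vH : H := ⟨v, mem_sup_right (mem_zpowers v)⟩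
  have hfix := fixed_of_local P hvP hPc (fun D hDP hvD hfull hcent n hn => by
    set DA := D.map H.subtype
    have hN : ∀ x : H, x ∈ normalizer (D : Set H) ↔ (x : A) ∈ normalizer (DA : Set A) := by
      intro x
      rw [mem_normalizer_iff, mem_normalizer_iff]
      constructor
      · intro h y
        constructor
        · rintro ⟨z, hz, rfl⟩
          exact ⟨x * z * x⁻¹, (h z).mp hz, rfl⟩
        · rintro ⟨z, hz, hze⟩
          refine ⟨x⁻¹ * z * x, ?_, ?_⟩
          · rw [SetLike.mem_coe, h]; simpa [mul_assoc] using hz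
          · show ((x⁻¹ * z * x : H) : A) = y
            have hze' : (z : A) = x * y * (x : A)⁻¹ := hze
            simp [hze', mul_assoc]
      · intro h z
        refine ⟨fun hz => ?_, fun hz => ?_⟩
        · obtain ⟨z', hz', he⟩ := (h z).mp ⟨z, hz, rfl⟩
          have : z' = x * z * x⁻¹ := Subtype.ext he
          rwa [← this]
        · obtain ⟨z', hz', he⟩ := (h z).mpr ⟨x * z * x⁻¹, hz, rfl⟩
          have : z' = z := Subtype.ext he
          rwa [← this]
    have hfullA : ¬ 2 ∣ (S₀ ⊓ normalizer (DA : Set A)).relIndex (H ⊓ normalizer (DA : Set A)) := by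
      intro h
      apply hfull
      rw [← relIndex_map_map_of_injective (f := H.subtype) _ _ H.subtype_injective]
      have e1 : ((P : Subgroup H) ⊓ normalizer (D : Set H)).map H.subtype = S₀ ⊓ normalizer (DA : Set A) := by
        ext y
        constructor
        · rintro ⟨z, ⟨hz, hzN⟩, rfl⟩
          exact ⟨hz, (hN z).mp hzN⟩
        · rintro ⟨hy, hyN⟩
          exact ⟨⟨y, hSH hy⟩, ⟨hy, (hN ⟨y, hSH hy⟩).mpr hyN⟩, rfl⟩
      have e2 : (normalizer (D : Set H)).map H.subtype = H ⊓ normalizer (DA : Set A) := by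
        ext y
        constructor
        · rintro ⟨z, hz, rfl⟩
          exact ⟨z.2, (hN z).mp hz⟩
        · rintro ⟨hy, hyN⟩
          exact ⟨⟨y, hy⟩, (hN ⟨y, hy⟩).mpr hyN, rfl⟩
      rwa [e1, e2]
    have hcentA : S₀ ⊓ centralizer (DA : Set A) ≤ DA := by
      rintro y ⟨hy, hyc⟩
      refine ⟨⟨y, hSH hy⟩, hcent ⟨hy, ?_⟩, rfl⟩
      refine mem_centralizer_iff.mpr ?_
      exact fun d hd => Subtype.ext (mem_centralizer_iff.mp hyc d ⟨d, hd, rfl⟩)
    have hnK : (n : A) ∈ (K : Set A) * (zpowers v : Set A) := by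
      rw [← coe_mul_of_right_le_normalizer_left K (zpowers v) (le_top.trans (le_normalizer_of_normal))]
      exact n.2
    obtain ⟨k, hk, w, hw, hkw⟩ := Set.mem_mul.mp hnK
    obtain ⟨i, rfl⟩ := hw
    have hvDA : v ∈ DA := ⟨vH, hvD, rfl⟩
    have hkD : k ∈ normalizer (DA : Set A) := by
      have h1 : v ^ i ∈ normalizer (DA : Set A) := le_normalizer (zpow_mem hvDA i)
      have h2 := mul_mem ((hN n).mp hn) (inv_mem h1)
      rwa [← hkw, mul_inv_cancel_right] at h2
    have hres := fix_of_local K hSK hv2 hvC hS0 hS0K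
      (by rintro _ ⟨d, hd, rfl⟩; exact hDP hd) hvDA hfullA hcentA hk hkD
    apply Subtype.ext
    show (n : A) * v * (n : A)⁻¹ = v
    rw [← hkw]
    show k * v ^ i * v * (k * v ^ i)⁻¹ = v
    calc k * v ^ i * v * (k * v ^ i)⁻¹ = k * (v ^ i * v * (v ^ i)⁻¹) * k⁻¹ := by group
      _ = k * v * k⁻¹ := by
          congr 2
          rw [(Commute.zpow_self v i).eq, mul_inv_cancel_right]
      _ = v := hres)
  have hiso : Cfsg.IsIsolatedInvolution vH := by
    refine ⟨by rw [← Subgroup.orderOf_coe]; exact hv2, fun g hg => ?_⟩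
    set v₁ := g * vH * g⁻¹
    set W := centralizer ({vH} : Set H)
    have hPW : (P : Subgroup H) ≤ W := hPc
    have hWi : ¬ 2 ∣ (P : Subgroup H).relIndex W :=
      fun h => P.not_dvd_index (h.trans (relIndex_dvd_index_of_le hPW))
    have hv₁W : v₁ ∈ W := mem_centralizer_singleton_iff.mpr hg.eq.symm
    have hv₁o : orderOf v₁ = 2 := by
      rw [show v₁ = MulAut.conj g vH from rfl, MulEquiv.orderOf_eq, ← Subgroup.orderOf_coe]
      exact hv2
    obtain ⟨c, hc, hcv⟩ := exists_conj_mem P.2 hPW hWi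
      (IsPGroup.of_card (n := 1) (by rw [Nat.card_zpowers, hv₁o, pow_one])) (zpowers_le.mpr hv₁W)
    have h1 := hfix (c * g) (by
      have := hcv v₁ (mem_zpowers v₁)
      rwa [show c * v₁ * c⁻¹ = c * g * vH * (c * g)⁻¹ by simp [v₁, mul_assoc]] at this)
    have h2 : c * v₁ * c⁻¹ = vH := by rwa [show c * v₁ * c⁻¹ = c * g * vH * (c * g)⁻¹ by simp [v₁, mul_assoc]]
    calc v₁ = c⁻¹ * (c * v₁ * c⁻¹) * c := by group
      _ = c⁻¹ * vH * c := by rw [h2]
      _ = vH := by rw [mul_assoc, ← mem_centralizer_singleton_iff.mp hc, inv_mul_cancel_left]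
  have hz := CfsgLib.Involutions.zstar H vH hiso
  have hcore : Cfsg.pPrimeCore 2 H = ⊥ := by
    set O := (Cfsg.pPrimeCore 2 H).map H.subtype
    have hOK : O ⊓ K = ⊥ := by
      rw [eq_bot_iff, ← map_bot K.subtype, ← hO]
      intro x hx
      refine ⟨⟨x, hx.2⟩, CfsgLib.PCore.le_pPrimeCore (N := O.subgroupOf K) ?_ ?_ hx.1, rfl⟩
      · refine normal_subgroupOf_of_le_normalizer ?_
        refine (le_sup_left : K ≤ H).trans ?_
        rintro h hh
        rw [mem_normalizer_iff]
        intro y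
        constructor
        · rintro ⟨z, hz, rfl⟩
          exact ⟨⟨h, hh⟩ * z * ⟨h, hh⟩⁻¹, (inferInstance : (Cfsg.pPrimeCore 2 H).Normal).conj_mem z hz _, rfl⟩
        · rintro ⟨z, hz, hze⟩
          refine ⟨⟨h, hh⟩⁻¹ * z * ⟨h, hh⟩, ?_, ?_⟩
          · simpa using (inferInstance : (Cfsg.pPrimeCore 2 H).Normal).conj_mem z hz (⟨h, hh⟩ : H)⁻¹
          · show h⁻¹ * (z : A) * h = y
            have hze' : (z : A) = h * y * h⁻¹ := hze
            rw [hze']; group
      · have h2 : Nat.card (O ⊓ K : Subgroup A) ∣ Nat.card O := card_dvd_of_le inf_le_left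
        rw [card_map_of_injective H.subtype_injective] at h2
        have e : Nat.card (O.subgroupOf K) = Nat.card (O ⊓ K : Subgroup A) := by
          rw [← inf_subgroupOf_right, Nat.card_congr (subgroupOfEquivOfLe inf_le_right).toEquiv]
        rw [e]
        exact CfsgLib.PCore.pPrimeCore_coprime.coprime_dvd_left h2
    rw [eq_bot_iff]
    intro x hx
    rw [mem_bot]
    apply Subtype.ext
    have hxc : (x : A) ∈ centralizer (K : Set A) := by
      rw [mem_centralizer_iff]
      intro y hy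
      have h1 : (x : A) * y * (x : A)⁻¹ * y⁻¹ ∈ O ⊓ K := by
        refine ⟨⟨x * (⟨y, mem_sup_left hy⟩ * x⁻¹ * ⟨y, mem_sup_left hy⟩⁻¹), mul_mem hx
          ((inferInstance : (Cfsg.pPrimeCore 2 H).Normal).conj_mem _ (inv_mem hx) _), ?_⟩, ?_⟩
        · show (x : A) * (y * (x : A)⁻¹ * y⁻¹) = _
          group
        · exact K.mul_mem ((inferInstance : K.Normal).conj_mem y hy _) (K.inv_mem hy)
      rw [hOK, mem_bot] at h1
      exact (mul_inv_eq_iff_eq_mul.mp (mul_inv_eq_one.mp h1)).symm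
    rw [hC, mem_bot] at hxc
    exact hxc
  have hvc : v ∈ centralizer (K : Set A) := by
    rw [mem_centralizer_iff]
    intro y hy
    have h1 := hz ⟨y, mem_sup_left hy⟩
    rw [hcore, mem_bot] at h1
    have h2 : y * v * y⁻¹ * v⁻¹ = 1 := congrArg Subtype.val h1
    exact mul_inv_eq_iff_eq_mul.mp (mul_inv_eq_one.mp h2)
  rw [hC, mem_bot] at hvc
  simp [hvc] at hv2

end CfsgLib.LBalance
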