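import Cfsg.Agent.Lib.LBalance.Glauberman
import Cfsg.Agent.Lib.Tech46.Schreier
import Cfsg.Agent.Lib.Tech46.CoprimeGen

/-!
For `O(Y) = 1`, a group like a 2-component of a 2-local subgroup acts on every component it
normalises by inner automorphisms.
-/

set_option autoImplicit false

namespace CfsgLib.LBalance

open Subgroup CfsgLib.Components CfsgLib.Tech46
open scoped commutatorElement Pointwise

variable {Y : Type*} [Group Y] [Finite Y]

/-- A group generated by its 2-elements has trivial image in any group of odd order. -/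
theorem le_of_two_elements_mem {H J : Subgroup Y} (hgen : pElemClosure 2 H = H)
    (hn : H ≤ normalizer (J : Set Y)) (hodd : ¬ 2 ∣ J.relIndex H) : H ≤ J := by
  haveI : Fact (Nat.Prime 2) := ⟨Nat.prime_two⟩
  haveI : (J.subgroupOf H).Normal := normal_subgroupOf_of_le_normalizer hn
  rw [← hgen, pElemClosure, closure_le]
  rintro g ⟨hg, n, hn'⟩
  exact mem_of_isSubnormal_of_coprime_index (p := 2) (H := J.subgroupOf H) (Subgroup.Normal.isSubnormal inferInstance)
    (CfsgLib.PCore.coprime_of_not_dvd_card hodd) (g := ⟨g, hg⟩) (n := n) (Subtype.ext (by simpa using hn'))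

/-- A perfect group generated by 2-elements that normalises a component and centralises a Sylow
2-subgroup of it centralises the component. -/
theorem le_centralizer_component (hO : Cfsg.pPrimeCore 2 Y = ⊥) {K : Subgroup Y}
    (hK : Cfsg.IsComponent K) {S : Subgroup Y} (hSK : S ≤ K) (hS : IsPGroup 2 S)
    (hSi : ¬ 2 ∣ S.relIndex K) {H : Subgroup Y} (hperf : ⁅H, H⁆ = H) (hgen : pElemClosure 2 H = H)
    (hHK : H ≤ normalizer (K : Set Y)) (hHS : H ≤ centralizer (S : Set Y)) :
    H ≤ centralizer (K : Set Y) := by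
  haveI : Fact (Nat.Prime 2) := ⟨Nat.prime_two⟩
  haveI := hK.2.1
  haveI hsimple : IsSimpleGroup (↥K ⧸ center ↥K) := hK.2.2
  have hQc : center (↥K ⧸ center ↥K) = ⊥ := by
    obtain h | h := (inferInstance : (center (↥K ⧸ center ↥K)).Normal).eq_bot_or_eq_top
    · exact h
    exfalso
    haveI : Group.IsPerfect (↥K ⧸ center ↥K) :=
      Group.IsPerfect.ofSurjective (QuotientGroup.mk'_surjective (center ↥K))
    exact Group.IsPerfect.not_isMulCommutative (↥K ⧸ center ↥K) (center_eq_top_iff.mp h)
  have hQ2 : 2 ∣ Nat.card (↥K ⧸ center ↥K) := by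
    by_contra h
    have h1 := congrArg (fun L : Subgroup Y => L.subgroupOf K)
      (pElemClosure_component hK.2 (dvd_card_component hO hK))
    have h2 : pElemClosure 2 K ≤ (center ↥K).map K.subtype := by
      rw [pElemClosure, closure_le]
      rintro g ⟨hg, n, hn⟩
      exact ⟨⟨g, hg⟩, mem_of_isSubnormal_of_coprime_index (p := 2) (H := center ↥K)
        (Subgroup.Normal.isSubnormal inferInstance) (CfsgLib.PCore.coprime_of_not_dvd_card h) (n := n)
        (Subtype.ext (by simpa using hn)), rfl⟩
    rw [pElemClosure_component hK.2 (dvd_card_component hO hK)] at h2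
    refine quasisimple_center_ne_top hK.2 (eq_top_iff.mpr fun x _ => ?_)
    obtain ⟨y, hy, hyx⟩ := h2 x.2
    exact Subtype.ext hyx ▸ hy
  let c : (↥K ⧸ center ↥K) →* MulAut (↥K ⧸ center ↥K) := MulAut.conj
  have hc : Function.Injective c := by
    rw [← MonoidHom.ker_eq_bot_iff, eq_bot_iff, ← hQc]
    intro x hx
    rw [mem_center_iff]
    intro y
    have h1 : x * y * x⁻¹ = y := by
      have := DFunLike.congr_fun (MonoidHom.mem_ker.mp hx) y
      simpa [c] using this
    exact (mul_inv_eq_iff_eq_mul.mp h1).symm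
  haveI : c.range.Normal := by
    constructor
    rintro _ ⟨g, rfl⟩ u
    exact ⟨u g, by ext x; simp [c]⟩
  have hC : centralizer (c.range : Set (MulAut (↥K ⧸ center ↥K))) = ⊥ := by
    rw [eq_bot_iff]
    intro u hu
    rw [mem_bot]
    ext x
    apply hc
    have h1 := mem_centralizer_iff.mp hu (c x) ⟨x, rfl⟩
    have h2 : c (u x) = u * c x * u⁻¹ := by ext y; simp [c]
    rw [h2, ← h1, mul_inv_cancel_right]
    rfl
  have hOI : Cfsg.pPrimeCore 2 ↥c.range = ⊥ := by
    refine CfsgLib.PCore.pPrimeCore_eq_bot_of_equiv (MonoidHom.ofInjective hc) ?_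
    obtain h | h := (inferInstance : (Cfsg.pPrimeCore 2 (↥K ⧸ center ↥K)).Normal).eq_bot_or_eq_top
    · exact h
    exfalso
    have h1 := CfsgLib.PCore.not_dvd_card_pPrimeCore (p := 2) (G := ↥K ⧸ center ↥K)
    rw [h, card_top] at h1
    exact h1 hQ2
  set q := QuotientGroup.mk' (center ↥K)
  set S' := (S.subgroupOf K).map (c.comp q) with hS'
  have hS'le : S' ≤ c.range := by
    rintro _ ⟨x, _, rfl⟩
    exact ⟨q x, rfl⟩
  have hS'2 : IsPGroup 2 S' := (hS.comap_subtype (K := K)).map _
  have hS'i : ¬ 2 ∣ S'.relIndex c.range := by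
    intro h
    apply hSi
    refine h.trans ?_
    have e : (c.comp q).range = c.range := by
      rw [MonoidHom.range_comp, MonoidHom.range_eq_top.mpr (QuotientGroup.mk'_surjective _),
        ← MonoidHom.range_eq_map]
    rw [← e, MonoidHom.range_eq_map, hS', relIndex_map_map, relIndex]
    have h' : ((S.subgroupOf K ⊔ (c.comp q).ker).subgroupOf (⊤ ⊔ (c.comp q).ker)).index =
        (S.subgroupOf K ⊔ (c.comp q).ker).index := by
      rw [← relIndex, top_sup_eq, relIndex_top_right]
    rw [h']
    exact index_dvd_of_le le_sup_left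
  have hodd := not_two_dvd_card_commutator_centralizer c.range hC hOI hS'le hS'2 hS'i
  let ψ : H →* MulAut K := K.normalizerMonoidHom.comp (Subgroup.inclusion hHK)
  have hchar : ∀ u : MulAut K, (center K).map u.toMonoidHom = center K :=
    fun u => Subgroup.characteristic_iff_map_eq.mp inferInstance u
  let α : MulAut K →* MulAut (↥K ⧸ center ↥K) :=
    { toFun := fun u => QuotientGroup.congr (center K) (center K) u (hchar u)
      map_one' := by
        ext x
        obtain ⟨x, rfl⟩ := QuotientGroup.mk'_surjective _ x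
        rfl
      map_mul' := fun u v => by
        ext x
        obtain ⟨x, rfl⟩ := QuotientGroup.mk'_surjective _ x
        rfl }
  set f : H →* MulAut (↥K ⧸ center ↥K) := α.comp ψ
  have hfC : f.range ≤ centralizer (S' : Set (MulAut (↥K ⧸ center ↥K))) := by
    rintro _ ⟨h, rfl⟩
    rw [mem_centralizer_iff]
    rintro _ ⟨s, hs, rfl⟩
    have hfix : f h (q s) = q s := by
      show QuotientGroup.mk' _ (ψ h s) = _
      congr 1
      apply Subtype.ext
      show (h : Y) * s * (h : Y)⁻¹ = s
      rw [← mem_centralizer_iff.mp (hHS h.2) s hs, mul_inv_cancel_right]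
    have h2 : c (f h (q s)) = f h * c (q s) * (f h)⁻¹ := by ext y; simp [c]
    rw [hfix] at h2
    show c (q s) * f h = f h * c (q s)
    conv_lhs => rw [h2]
    rw [inv_mul_cancel_right]
  have hfD : f.range ≤ ⁅centralizer (S' : Set (MulAut (↥K ⧸ center ↥K))),
      centralizer (S' : Set (MulAut (↥K ⧸ center ↥K)))⁆ := by
    refine le_trans (le_of_eq ?_) (commutator_mono hfC hfC)
    rw [MonoidHom.range_eq_map, ← map_commutator]
    congr 1
    have := (Subgroup.isPerfect_iff.mpr hperf).commutator_eq_top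
    rwa [_root_.commutator_def, eq_comm] at this
  have hker : H ≤ f.ker.map H.subtype := by
    refine le_of_two_elements_mem hgen ?_ ?_
    · intro h hh
      have : ((⟨h, hh⟩ : H) : Y) ∈ normalizer ((f.ker.map H.subtype : Subgroup Y) : Set Y) := by
        refine le_normalizer_map H.subtype ⟨⟨h, hh⟩, ?_, rfl⟩
        exact le_normalizer_of_normal (mem_top _)
      exact this
    · intro h2
      rw [relIndex, subgroupOf, comap_map_eq_self_of_injective H.subtype_injective, index_ker] at h2
      exact hodd (h2.trans (card_dvd_of_le hfD))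
  intro h hh
  obtain ⟨h', hh', rfl⟩ := hker hh
  refine mem_centralizer_of_component_mod_center hK fun k hk => ?_
  have h1 : q (ψ h' ⟨k, hk⟩) = q ⟨k, hk⟩ := DFunLike.congr_fun (MonoidHom.mem_ker.mp hh') (q ⟨k, hk⟩)
  have h3 : ψ h' ⟨k, hk⟩ * (⟨k, hk⟩ : K)⁻¹ ∈ center K := by
    rw [← QuotientGroup.eq_one_iff]
    show q (ψ h' ⟨k, hk⟩ * (⟨k, hk⟩ : K)⁻¹) = 1
    rw [map_mul, map_inv, h1, mul_inv_cancel]
  rw [← map_center_subtype]
  exact ⟨_, h3, rfl⟩

/-- The conditions satisfied by a 2-component of the normalizer of a 2-group `R`. -/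
structure LocalComp (R H : Subgroup Y) : Prop where
  isTwo : IsPGroup 2 R
  le_cent : H ≤ centralizer (R : Set Y)
  subnormal : (H.subgroupOf (normalizer (R : Set Y))).IsSubnormal
  perfect : ⁅H, H⁆ = H
  gen : pElemClosure 2 H = H
  quasisimple : Cfsg.IsQuasisimple (↥H ⧸ Cfsg.pPrimeCore 2 ↥H)

/-- The image modulo the core of the local subgroup is a component. -/
theorem LocalComp.isComponent_map {R H : Subgroup Y} (h : LocalComp R H) :
    Cfsg.IsComponent ((H.subgroupOf (normalizer (R : Set Y))).map
      (QuotientGroup.mk' (Cfsg.pPrimeCore 2 (normalizer (R : Set Y))))) := by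
  haveI : Fact (Nat.Prime 2) := ⟨Nat.prime_two⟩
  set N₀ := normalizer (R : Set Y)
  have hHN₀ : H ≤ N₀ := h.le_cent.trans (centralizer_le_normalizer _)
  set π₀ := QuotientGroup.mk' (Cfsg.pPrimeCore 2 N₀)
  set H₀ := H.subgroupOf N₀
  refine ⟨h.subnormal.map (QuotientGroup.mk'_surjective _), ?_⟩
  let ι : H →* H₀ := (subgroupOfEquivOfLe hHN₀).symm.toMonoidHom
  let g : H →* H₀.map π₀ := (π₀.subgroupMap H₀).comp ι
  have hg : Function.Surjective g :=
    (π₀.subgroupMap_surjective H₀).comp (subgroupOfEquivOfLe hHN₀).symm.surjective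
  have hker : Cfsg.pPrimeCore 2 H ≤ g.ker := by
    intro x hx
    rw [MonoidHom.mem_ker]
    apply Subtype.ext
    show π₀ (ι x : N₀) = 1
    refine (QuotientGroup.eq_one_iff _).mpr (CfsgLib.PCore.map_pPrimeCore_subtype_of_isSubnormal h.subnormal ?_)
    exact ⟨ι x, CfsgLib.PCore.map_pPrimeCore_le ι (subgroupOfEquivOfLe hHN₀).symm.surjective ⟨x, hx, rfl⟩, rfl⟩
  have hnt : Nontrivial (H₀.map π₀) := by
    rw [Subgroup.nontrivial_iff_ne_bot, Ne, Subgroup.map_eq_bot_iff, QuotientGroup.ker_mk']
    intro hle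
    have hcop : (Nat.card H).Coprime 2 := by
      rw [← Nat.card_congr (subgroupOfEquivOfLe hHN₀).toEquiv]
      exact CfsgLib.PCore.pPrimeCore_coprime.coprime_dvd_left (card_dvd_of_le hle)
    haveI := quasisimple_nontrivial h.quasisimple
    haveI : Subsingleton (↥H ⧸ Cfsg.pPrimeCore 2 ↥H) :=
      QuotientGroup.subsingleton_iff.mpr (CfsgLib.PCore.pPrimeCore_eq_top_of_coprime hcop)
    exact not_subsingleton (↥H ⧸ Cfsg.pPrimeCore 2 ↥H) inferInstance
  refine isQuasisimple_of_surjective h.quasisimple (QuotientGroup.lift _ g hker) ?_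
  intro y
  obtain ⟨x, rfl⟩ := hg y
  exact ⟨QuotientGroup.mk x, rfl⟩

/-- Enlarging the 2-group: a subnormal part of the centraliser of `U` covers `H` modulo its core. -/
theorem LocalComp.exists_larger {R U H : Subgroup Y} (h : LocalComp R H) (hRU : IsPGroup 2 (R ⊔ U : Subgroup Y))
    (hUH : U ≤ normalizer (H : Set Y)) (hcomm : ∀ x ∈ H, ∀ u ∈ U, ⁅x, u⁆ ∈ localCore 2 R)
    (hUD : U ≤ normalizer (localCore 2 R : Set Y)) :
    ∃ L : Subgroup Y, L ≤ H ∧ LocalComp (R ⊔ U) L ∧ H ≤ L ⊔ localCore 2 R := by
  classical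
  haveI : Fact (Nat.Prime 2) := ⟨Nat.prime_two⟩
  set D := localCore 2 R ⊓ H with hDdef
  have hDodd : ¬ 2 ∣ Nat.card D := by
    intro h2
    exact (Nat.prime_two.coprime_iff_not_dvd).mp
      (localCore_coprime (p := 2) R).symm (h2.trans (card_dvd_of_le inf_le_left))
  have hUD' : U ≤ normalizer (D : Set Y) := by
    intro u hu
    have a := mem_normalizer_iff.mp (hUD hu)
    have b := mem_normalizer_iff.mp (hUH hu)
    rw [mem_normalizer_iff]
    intro y
    simp only [hDdef, mem_inf]
    exact and_congr (a y) (b y)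
  set C : Subgroup H := (centralizer (U : Set Y)).subgroupOf H with hCdef
  have hHn : H ≤ normalizer (localCore 2 R : Set Y) :=
    (h.le_cent.trans (centralizer_le_normalizer _)).trans (le_normalizer_localCore R)
  haveI hDn : (D.subgroupOf H).Normal := by
    refine normal_subgroupOf_of_le_normalizer fun x hx => ?_
    have a := mem_normalizer_iff.mp (hHn hx)
    have b := mem_normalizer_iff.mp (le_normalizer (H := H) hx)
    rw [mem_normalizer_iff]
    intro y
    simp only [hDdef, mem_inf]
    exact and_congr (a y) (b y)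
  set O := Cfsg.pPrimeCore 2 ↥H with hOdef
  have hDO : D.subgroupOf H ≤ O := CfsgLib.PCore.le_pPrimeCore hDn (by
    rw [Nat.card_congr (subgroupOfEquivOfLe (inf_le_right : D ≤ H)).toEquiv]
    exact CfsgLib.PCore.coprime_of_not_dvd_card hDodd)
  have hOD : O ≤ D.subgroupOf H := by
    intro x hx
    have hHN : H ≤ normalizer (R : Set Y) := h.le_cent.trans (centralizer_le_normalizer _)
    let ι := (subgroupOfEquivOfLe hHN).symm.toMonoidHom
    have h1 : (ι x : normalizer (R : Set Y)) ∈ Cfsg.pPrimeCore 2 (normalizer (R : Set Y)) :=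
      CfsgLib.PCore.map_pPrimeCore_subtype_of_isSubnormal h.subnormal
        ⟨ι x, CfsgLib.PCore.map_pPrimeCore_le ι (subgroupOfEquivOfLe hHN).symm.surjective ⟨x, hx, rfl⟩, rfl⟩
    exact ⟨⟨_, h1, rfl⟩, x.2⟩
  set q := QuotientGroup.mk' O with hq
  have hCq : C.map q = ⊤ := by
    rw [eq_top_iff]
    rintro z -
    obtain ⟨x, rfl⟩ := QuotientGroup.mk'_surjective O z
    obtain ⟨n, hn, hxn⟩ := exists_fixed_in_coset (p := 2) (A := U) (N := D)
      (hRU.to_le le_sup_right) hDodd hUD' (x := (x : Y)) (fun u hu => by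
        refine ⟨?_, H.mul_mem (H.inv_mem x.2) ((mem_normalizer_iff.mp (hUH hu) _).mp x.2)⟩
        have h1 := hcomm _ (H.inv_mem x.2) u hu
        rw [commutatorElement_def, inv_inv] at h1
        have e : (x : Y)⁻¹ * (u * (x : Y) * u⁻¹) = (x : Y)⁻¹ * u * (x : Y) * u⁻¹ := by group
        rw [e]
        exact h1)
    refine ⟨x * ⟨n, hn.2⟩, hxn, ?_⟩
    rw [map_mul, mul_eq_left, hq, QuotientGroup.mk'_apply, QuotientGroup.eq_one_iff]
    exact hDO hn
  obtain ⟨L, ⟨hLC, hLs, hLq⟩, hmin⟩ := Set.Finite.exists_minimalFor id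
    {L : Subgroup H | L ≤ C ∧ (L.subgroupOf C).IsSubnormal ∧ L.map q = ⊤}
    (Set.toFinite _) ⟨C, le_rfl, by rw [subgroupOf_self]; exact IsSubnormal.top, hCq⟩
  have hstep : ∀ M : Subgroup H, M ≤ L → (M.subgroupOf L).Normal → M.map q = ⊤ → M = L := by
    intro M hML hMn hMq
    refine le_antisymm hML (hmin ⟨hML.trans hLC, ?_, hMq⟩ hML)
    refine IsSubnormal.trans (fun x hx => hML hx) ?_ hLs
    exact hMn.isSubnormal.comap (subgroupOfEquivOfLe hLC).toMonoidHom
  have hHgen : pElemClosure 2 (⊤ : Subgroup H) = ⊤ := by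
    apply map_injective H.subtype_injective
    rw [map_pElemClosure, ← MonoidHom.range_eq_map, range_subtype, h.gen]
  have hperfL : ⁅L, L⁆ = L := by
    refine hstep _ (commutator_le_self L) ?_ ?_
    · refine (normal_subgroupOf_iff_le_normalizer (commutator_le_self L)).mpr fun x hx => ?_
      rw [mem_normalizer_iff_map_conj_eq, map_commutator,
        mem_normalizer_iff_map_conj_eq.mp (le_normalizer (H := L) hx)]
    · have hp : ⁅(⊤ : Subgroup (↥H ⧸ O)), ⊤⁆ = ⊤ := quasisimple_commutator_eq_top h.quasisimple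
      rw [map_commutator, hLq, hp]
  have hgenL : pElemClosure 2 L = L := by
    refine hstep _ (pElemClosure_le L) (pElemClosure_normal_subgroupOf L) ?_
    rw [map_pElemClosure, hLq, ← map_top_of_surjective q (QuotientGroup.mk'_surjective O), ← map_pElemClosure,
      hHgen]
  refine ⟨L.map H.subtype, map_subtype_le L, ⟨hRU, ?_, ?_, ?_, ?_, ?_⟩, ?_⟩
  · rintro _ ⟨x, hx, rfl⟩
    have hxR := h.le_cent x.2
    have hxU : (x : Y) ∈ centralizer (U : Set Y) := hLC hx
    rw [mem_centralizer_iff]
    intro r hr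
    have hle : R ⊔ U ≤ centralizer ({(x : Y)} : Set Y) :=
      sup_le (fun a ha => mem_centralizer_singleton_iff.mpr (mem_centralizer_iff.mp hxR a ha))
        (fun a ha => mem_centralizer_singleton_iff.mpr (mem_centralizer_iff.mp hxU a ha))
    exact mem_centralizer_singleton_iff.mp (hle hr)
  · set R' := R ⊔ U
    set C' := centralizer (R' : Set Y)
    have hC'N : C' ≤ normalizer (R : Set Y) :=
      (centralizer_le (SetLike.coe_subset_coe.mpr le_sup_left)).trans (centralizer_le_normalizer _)
    set HC := H ⊓ centralizer (U : Set Y)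
    have hHC' : HC ≤ C' := by
      intro x hx
      rw [mem_centralizer_iff]
      intro r hr
      have hle : R ⊔ U ≤ centralizer ({x} : Set Y) :=
        sup_le (fun a ha => mem_centralizer_singleton_iff.mpr (mem_centralizer_iff.mp (h.le_cent hx.1) a ha))
          (fun a ha => mem_centralizer_singleton_iff.mpr (mem_centralizer_iff.mp hx.2 a ha))
      exact mem_centralizer_singleton_iff.mp (hle hr)
    have h1 : (HC.subgroupOf C').IsSubnormal := by
      have e : HC.subgroupOf C' = H.subgroupOf C' := by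
        ext x
        exact ⟨fun hx => hx.1, fun hx => ⟨hx,
          centralizer_le (SetLike.coe_subset_coe.mpr (le_sup_right : U ≤ R')) x.2⟩⟩
      rw [e]
      exact h.subnormal.comap (Subgroup.inclusion hC'N)
    have hLHC : L.map H.subtype ≤ HC := by
      rintro _ ⟨x, hx, rfl⟩
      exact ⟨x.2, hLC hx⟩
    have h2 : ((L.map H.subtype).subgroupOf HC).IsSubnormal := by
      let j : ↥HC →* ↥C := MonoidHom.mk' (fun x => ⟨⟨x, x.2.1⟩, x.2.2⟩) fun _ _ => rfl
      have e : (L.map H.subtype).subgroupOf HC = (L.subgroupOf C).comap j := by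
        ext x
        constructor
        · rintro ⟨y, hy, hyx⟩
          have : y = ⟨(x : Y), x.2.1⟩ := Subtype.ext hyx
          subst this
          exact hy
        · exact fun hx => ⟨_, hx, rfl⟩
      rw [e]
      exact hLs.comap j
    have h3 : ((L.map H.subtype).subgroupOf C').IsSubnormal :=
      IsSubnormal.trans (fun x hx => hLHC hx) (h2.comap (subgroupOfEquivOfLe hHC').toMonoidHom) h1
    set N' := normalizer (R' : Set Y)
    haveI hCn : (C'.subgroupOf N').Normal :=
      normal_subgroupOf_of_le_normalizer (normalizer_le_normalizer_centralizer' R')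
    let e : ↥(C'.subgroupOf N') →* C' := (subgroupOfEquivOfLe (centralizer_le_normalizer _)).toMonoidHom
    exact IsSubnormal.trans (fun x hx => hHC' (hLHC hx)) (h3.comap e) hCn.isSubnormal
  · rw [← map_commutator, hperfL]
  · rw [← map_pElemClosure, hgenL]
  · let e : L ≃* L.map H.subtype := equivMapOfInjective L H.subtype H.subtype_injective
    refine isQuasisimple_of_mulEquiv ?_ (QuotientGroup.congr _ _ e (CfsgLib.PCore.map_pPrimeCore_equiv e))
    have hs : Function.Surjective (q.comp L.subtype) := by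
      intro z
      obtain ⟨x, hx, hxz⟩ := (hLq.ge (mem_top z) : z ∈ L.map q)
      exact ⟨⟨x, hx⟩, hxz⟩
    have hk : (q.comp L.subtype).ker ≤ Cfsg.pPrimeCore 2 ↥L := by
      refine CfsgLib.PCore.le_pPrimeCore (MonoidHom.normal_ker _) ?_
      rw [← card_map_of_injective L.subtype_injective]
      refine (CfsgLib.PCore.pPrimeCore_coprime (p := 2) (G := ↥H)).coprime_dvd_left (card_dvd_of_le ?_)
      rintro _ ⟨x, hx, rfl⟩
      exact (QuotientGroup.eq_one_iff _).mp (MonoidHom.mem_ker.mp hx)
    haveI : Nontrivial (↥L ⧸ Cfsg.pPrimeCore 2 ↥L) := by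
      rw [QuotientGroup.nontrivial_iff]
      intro htop
      have hcop : (Nat.card L).Coprime 2 := by
        have := CfsgLib.PCore.pPrimeCore_coprime (p := 2) (G := ↥L)
        rwa [htop, card_top] at this
      haveI := quasisimple_nontrivial h.quasisimple
      have h2 : pElemClosure 2 L = ⊥ := by
        rw [pElemClosure, closure_eq_bot_iff]
        rintro g ⟨hg, n, hn⟩
        rw [Set.mem_singleton_iff, ← orderOf_eq_one_iff]
        exact Nat.eq_one_of_dvd_coprimes ((hcop.pow_right n).symm) (orderOf_dvd_of_pow_eq_one hn)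
          (orderOf_dvd_natCard L hg)
      rw [hgenL] at h2
      exact (bot_ne_top : (⊥ : Subgroup (↥H ⧸ O)) ≠ ⊤) (by rw [← hLq, h2, Subgroup.map_bot])
    exact isQuasisimple_of_surjective h.quasisimple
      ((QuotientGroup.map (q.comp L.subtype).ker (Cfsg.pPrimeCore 2 ↥L) (MonoidHom.id _) (hk.trans (comap_id _).ge)).comp
        (QuotientGroup.quotientKerEquivOfSurjective _ hs).symm.toMonoidHom)
      (by
        intro y
        obtain ⟨x, rfl⟩ := QuotientGroup.mk'_surjective _ y
        exact ⟨QuotientGroup.quotientKerEquivOfSurjective _ hs (QuotientGroup.mk x), by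
          simp only [MonoidHom.comp_apply, MulEquiv.coe_toMonoidHom, MulEquiv.symm_apply_apply]
          rfl⟩)
  · intro x hx
    obtain ⟨y, hy, hyx⟩ := (hLq.ge (mem_top (q ⟨x, hx⟩)) : q ⟨x, hx⟩ ∈ L.map q)
    have hd : y⁻¹ * ⟨x, hx⟩ ∈ O := QuotientGroup.eq.mp hyx
    have hd' : (y : Y)⁻¹ * x ∈ localCore 2 R := (hOD hd).1
    have := mul_mem_sup (mem_map_of_mem H.subtype hy) hd'
    simpa using this

/-- A 2-subgroup containing a Sylow 2-subgroup `U` of `X` meets `X` in `U`. -/
theorem mem_of_two_group_inf {U X T : Subgroup Y} (hUX : U ≤ X) (hUi : ¬ 2 ∣ U.relIndex X)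
    (hT : IsPGroup 2 T) (hUT : U ≤ T) {x : Y} (hx : x ∈ T ⊓ X) : x ∈ U := by
  haveI : Fact (Nat.Prime 2) := ⟨Nat.prime_two⟩
  have hle : U ≤ T ⊓ X := le_inf hUT hUX
  obtain ⟨j, hj⟩ := (hT.to_le inf_le_left : IsPGroup 2 (T ⊓ X : Subgroup Y)).index (U.subgroupOf (T ⊓ X))
  rcases j with _ | j
  · rw [pow_zero, Subgroup.index_eq_one, subgroupOf_eq_top] at hj
    exact hj hx
  · exfalso
    apply hUi
    rw [← relIndex_mul_relIndex U (T ⊓ X) X hle inf_le_right]
    refine dvd_mul_of_dvd_left ?_ _
    rw [relIndex, hj]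
    exact dvd_pow_self 2 (Nat.succ_ne_zero j)

/-- **The key step**: a local 2-component acts on a component it normalises by inner automorphisms. -/
theorem inner_of_two (hO : Cfsg.pPrimeCore 2 Y = ⊥) {K : Subgroup Y} (hK : Cfsg.IsComponent K)
    {R H : Subgroup Y} (h : LocalComp R H) (hHK : H ≤ normalizer (K : Set Y)) :
    H ≤ K ⊔ centralizer (K : Set Y) := by
  haveI : Fact (Nat.Prime 2) := ⟨Nat.prime_two⟩
  induction hn : Nat.card Y - Nat.card R using Nat.strong_induction_on generalizing R H with
  | _ n ih =>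
  subst hn
  set J := K ⊔ centralizer (K : Set Y) with hJdef
  have hJn : normalizer (K : Set Y) ≤ normalizer (J : Set Y) :=
    (le_inf le_rfl (normalizer_le_normalizer_centralizer' K)).trans
      ((inf_le_inf_left _ le_rfl).trans (fun x hx => by
        rw [mem_normalizer_iff_map_conj_eq]
        have a := mem_normalizer_iff_map_conj_eq.mp hx.1
        have b := mem_normalizer_iff_map_conj_eq.mp hx.2
        rw [hJdef, Subgroup.map_sup, a, b]))
  have habsorb : ∀ A : Subgroup Y, H ≤ A ⊔ localCore 2 R → A ≤ J → A ≤ normalizer (K : Set Y) → H ≤ J := by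
    intro A hA hAJ hAK
    refine le_of_two_elements_mem h.gen (hHK.trans hJn) ?_
    set J₁ := J ⊔ localCore 2 R
    have hJ₁ : J₁ ≤ normalizer (J : Set Y) :=
      sup_le le_normalizer ((localCore_le_normalizer_component hO h.isTwo hK).trans hJn)
    have hHJ₁ : H ≤ J₁ := hA.trans (sup_le_sup_right hAJ _)
    haveI : (J.subgroupOf J₁).Normal := normal_subgroupOf_of_le_normalizer hJ₁
    intro h2
    have h3 : J.relIndex H ∣ J.relIndex J₁ := by
      have := relIndex_dvd_index_of_normal (J.subgroupOf J₁) (H.subgroupOf J₁)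
      rwa [relIndex_subgroupOf hHJ₁] at this
    have h4 : J.relIndex J₁ ∣ Nat.card (localCore 2 R) := by
      have e := relIndex_sup_left ((localCore 2 R).subgroupOf J₁) (J.subgroupOf J₁)
      rw [← subgroupOf_sup le_sup_left le_sup_right, subgroupOf_self, relIndex_top_right,
        relIndex_subgroupOf le_sup_right] at e
      rw [relIndex, e]
      exact relIndex_dvd_card _ _
    exact (Nat.prime_two.coprime_iff_not_dvd).mp (localCore_coprime (p := 2) R).symm
      ((h2.trans h3).trans h4)
  set N := normalizer (R : Set Y) with hNdef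
  have hHN : H ≤ N := h.le_cent.trans (centralizer_le_normalizer _)
  set E := Cfsg.layer Y with hEdef
  haveI hEn : E.Normal := inferInstance
  have hEJ : E ≤ J := by
    refine sSup_le fun L hL => ?_
    obtain rfl | hne := eq_or_ne L K
    · exact le_sup_left
    · exact (le_centralizer_of_commutator_eq_bot (commutator_components_eq_bot hL hK hne)).trans le_sup_right
  set π₀ := QuotientGroup.mk' (Cfsg.pPrimeCore 2 N)
  set E₀ := E.subgroupOf N with hE₀
  haveI hE₀n : E₀.Normal := hEn.subgroupOf _
  obtain hle | hbot := le_or_commutator_eq_bot h.isComponent_map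
    (hE₀n.map π₀ (QuotientGroup.mk'_surjective _)).isSubnormal
  · refine habsorb E ?_ hEJ (layer_le_normalizer_component hK)
    intro x hx
    obtain ⟨e, he, hex⟩ := hle ⟨⟨x, hHN hx⟩, hx, rfl⟩
    have hd : e⁻¹ * ⟨x, hHN hx⟩ ∈ Cfsg.pPrimeCore 2 N := QuotientGroup.eq.mp hex
    have hd' : (e : Y)⁻¹ * x ∈ localCore 2 R := ⟨_, hd, rfl⟩
    have := mul_mem_sup (S := E) (T := localCore 2 R) (he : (e : Y) ∈ E) hd'
    simpa using this
  · set W := E ⊓ N with hW
    have hcomm : ∀ x ∈ H, ∀ u ∈ W, ⁅x, u⁆ ∈ localCore 2 R := by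
      intro x hx u hu
      have h1 : π₀ ⁅(⟨x, hHN hx⟩ : N), ⟨u, hu.2⟩⁆ = 1 := by
        rw [map_commutatorElement, ← mem_bot, ← hbot]
        exact commutator_mem_commutator ⟨_, hx, rfl⟩ ⟨⟨u, hu.2⟩, hu.1, rfl⟩
      exact ⟨_, (QuotientGroup.eq_one_iff _).mp h1, rfl⟩
    have hRW : R ≤ normalizer (W : Set Y) := by
      intro r hr
      have a := mem_normalizer_iff.mp (le_normalizer_of_normal (H := E) (mem_top r))
      have b := mem_normalizer_iff.mp (le_normalizer (H := N) (le_normalizer hr))
      rw [mem_normalizer_iff]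
      intro y
      simp only [hW, mem_inf]
      exact and_congr (a y) (b y)
    obtain ⟨U, hUW, hU, hUi, -, hRU, hRWU⟩ := exists_sylow_normalized (p := 2) h.isTwo hRW
    by_cases hUR : U ≤ R
    · -- `R ∩ E` is a Sylow 2-subgroup of the layer
      obtain ⟨P, hPE, hP, hPi, -, hRP, hREP⟩ :=
        exists_sylow_normalized (p := 2) h.isTwo (X := E) (le_top.trans (le_normalizer_of_normal))
      have hPR : P ≤ R := by
        by_contra hne
        obtain ⟨z, hz, hzR⟩ := SetLike.exists_of_lt
          (lt_inf_normalizer hRP (lt_of_le_of_ne le_sup_left fun he => hne (le_sup_right.trans_eq he.symm)))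
        have hz1 : z ∈ (R : Set Y) * (P : Set Y) := by
          rw [← coe_mul_of_left_le_normalizer_right R P ?_]
          · exact hz.1
          · intro r hr
            refine mem_normalizer_iff.mpr fun y => ?_
            have hRE : r ∈ normalizer (E : Set Y) := le_normalizer_of_normal (mem_top r)
            constructor
            · intro hy
              have hyR : r * y * r⁻¹ ∈ R ⊔ P :=
                mul_mem (mul_mem (mem_sup_left hr) (mem_sup_right hy)) (inv_mem (mem_sup_left hr))
              exact mem_of_two_group_inf hPE hPi hRP le_sup_right ⟨hyR, (mem_normalizer_iff.mp hRE y).mp (hPE hy)⟩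
            · intro hy
              have hyR : y ∈ R ⊔ P := by
                have := mul_mem (mul_mem (inv_mem (mem_sup_left hr : r ∈ R ⊔ P)) (mem_sup_right hy)) (mem_sup_left hr)
                simpa [mul_assoc] using this
              exact mem_of_two_group_inf hPE hPi hRP le_sup_right ⟨hyR, (mem_normalizer_iff.mp hRE y).mpr (hPE hy)⟩
        obtain ⟨r, hr, x, hx, rfl⟩ := Set.mem_mul.mp hz1
        apply hzR
        refine mul_mem hr (hUR ?_)
        have hxN : x ∈ N := by
          have := mul_mem (inv_mem (le_normalizer hr : r ∈ N)) hz.2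
          rwa [inv_mul_cancel_left] at this
        refine mem_of_two_group_inf hUW hUi (T := (P ⊓ N) ⊔ U) ?_ le_sup_right ⟨mem_sup_left ⟨hx, hxN⟩, hPE hx, hxN⟩
        refine hP.to_le (sup_le inf_le_left ?_)
        intro u hu
        exact hREP ⟨hUR hu, (hUW hu).1⟩
      set S := P ⊓ K
      have hKE : K ≤ E := component_le_layer hK
      have hSi : ¬ 2 ∣ S.relIndex K := by
        intro h2
        apply hPi
        haveI : (K.subgroupOf E).Normal :=
          normal_subgroupOf_of_le_normalizer (layer_le_normalizer_component hK)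
        have h' := relIndex_dvd_index_of_normal_right (a := P.subgroupOf E) (c := K.subgroupOf E)
        rw [relIndex_subgroupOf hKE, ← inf_relIndex_right] at h'
        exact h2.trans h'
      refine le_trans (le_centralizer_component hO hK inf_le_right (hP.to_le inf_le_left) hSi h.perfect h.gen
        hHK ?_) le_sup_right
      exact h.le_cent.trans (centralizer_le (SetLike.coe_subset_coe.mpr (inf_le_left.trans hPR)))
    · have hUN : U ≤ N := hUW.trans inf_le_right
      have hUH : U ≤ normalizer (H : Set Y) := by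
        set N₀ := normalizer (R : Set Y)
        have key : pElemClosure 2 (H ⊔ localCore 2 R) = H := by
          refine le_antisymm ?_ (h.gen.ge.trans (pElemClosure_mono le_sup_left))
          set H₀ := H.subgroupOf N
          have e : H ⊔ localCore 2 R = (H₀ ⊔ Cfsg.pPrimeCore 2 N).map N.subtype := by
            rw [Subgroup.map_sup, map_subgroupOf_eq_of_le hHN]
          rw [e, ← map_pElemClosure]
          refine (map_mono (pElemClosure_le_of_coprime h.subnormal ?_)).trans_eq (map_subgroupOf_eq_of_le hHN)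
          exact CfsgLib.PCore.pPrimeCore_coprime.coprime_dvd_left (relIndex_dvd_card_of_le_sup le_sup_left le_rfl)
        rw [← key]
        refine le_normalizer_pElemClosure ?_
        intro u hu
        have hinv : ∀ v ∈ U, ∀ x ∈ H ⊔ localCore 2 R, v * x * v⁻¹ ∈ H ⊔ localCore 2 R := by
          intro v hv x hx
          have hle : H ⊔ localCore 2 R ≤ (H ⊔ localCore 2 R).comap (MulAut.conj v).toMonoidHom := by
            refine sup_le (fun y hy => ?_) (fun y hy => ?_)
            · show v * y * v⁻¹ ∈ H ⊔ localCore 2 R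
              rw [show v * y * v⁻¹ = ⁅y, v⁆⁻¹ * y by rw [commutatorElement_def]; group]
              exact mul_mem (inv_mem (mem_sup_right (hcomm y hy v (hUW hv)))) (mem_sup_left hy)
            · exact mem_sup_right ((mem_normalizer_iff.mp (le_normalizer_localCore R (hUN hv)) y).mp hy)
          exact hle hx
        rw [mem_normalizer_iff]
        exact fun x => ⟨hinv u hu x, fun hx => by simpa [mul_assoc] using hinv u⁻¹ (inv_mem hu) _ hx⟩
      obtain ⟨L, hLH, hL, hHL⟩ := h.exists_larger hRU hUH (fun x hx u hu => hcomm x hx u (hUW hu))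
        (hUN.trans (le_normalizer_localCore R))
      have hlt : Nat.card Y - Nat.card (R ⊔ U : Subgroup Y) < Nat.card Y - Nat.card R := by
        have h1 : Nat.card R < Nat.card (R ⊔ U : Subgroup Y) :=
          not_le.mp fun hle => hUR (le_sup_right.trans_eq (eq_of_le_of_card_ge le_sup_left hle).symm)
        have h2 : Nat.card (R ⊔ U : Subgroup Y) ≤ Nat.card Y := card_le_card_group _
        omega
      exact habsorb L hHL (ih _ hlt hL (hLH.trans hHK) rfl) (hLH.trans hHK)

end CfsgLib.LBalance
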